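import Groth.Agent.RGammaLib.Torsion
import Groth.Agent.DerCat.KInjProducts
import Mathlib.Algebra.Homology.DerivedCategory.Linear
import Mathlib.Algebra.Homology.HomotopyCategory.HomComplexSingle
import Mathlib.CategoryTheory.Limits.ConcreteCategory.Filtered

/-!
# The colimit of `Hom(A/I^n, K[q])` computed by a K-injective complex
-/

set_option autoImplicit false
set_option backward.isDefEq.respectTransparency false
set_option backward.defeqAttrib.useBackward true

universe u

attribute [local instance] HasDerivedCategory.standard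

open CategoryTheory Limits Opposite CochainComplex CochainComplex.HomComplex

namespace Groth.Agent.RGammaLib

variable {A : Type u} [CommRing A] {L : DRing.Cx A}

/-- The chain map from a module given by a cycle in degree `0`. -/
noncomputable def chainOf {M : ModuleCat.{u} A} (a : M ⟶ L.X 0) (ha : a ≫ L.d 0 1 = 0) :
    (CochainComplex.singleFunctor (ModuleCat.{u} A) 0).obj M ⟶ L :=
  HomologicalComplex.mkHomFromSingle a (fun k hk => by
    obtain rfl : (1 : ℤ) = k := by simpa using hk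
    exact ha)

theorem chainOf_f {M : ModuleCat.{u} A} (a : M ⟶ L.X 0) (ha : a ≫ L.d 0 1 = 0) :
    (chainOf a ha).f 0 = (HomologicalComplex.singleObjXSelf (ComplexShape.up ℤ) 0 M).hom ≫ a :=
  HomologicalComplex.mkHomFromSingle_f _ _

theorem chainOf_ext {M : ModuleCat.{u} A} {φ ψ : (CochainComplex.singleFunctor (ModuleCat.{u} A) 0).obj M ⟶ L}
    (h : φ.f 0 = ψ.f 0) : φ = ψ :=
  HomologicalComplex.from_single_hom_ext h

/-- The morphism in `D(A)` given by a cycle. -/
noncomputable def toD {M : ModuleCat.{u} A} (a : M ⟶ L.X 0) (ha : a ≫ L.d 0 1 = 0) :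
    (DerivedCategory.singleFunctor (ModuleCat.{u} A) 0).obj M ⟶ DerivedCategory.Q.obj L :=
  (DerivedCategory.singleFunctorIsoCompQ (ModuleCat.{u} A) 0).hom.app M ≫ DerivedCategory.Q.map (chainOf a ha)

theorem toD_surjective [L.IsKInjective] {M : ModuleCat.{u} A}
    (φ : (DerivedCategory.singleFunctor (ModuleCat.{u} A) 0).obj M ⟶ DerivedCategory.Q.obj L) :
    ∃ a ha, toD (L := L) (M := M) a ha = φ := by
  obtain ⟨g, hg⟩ := DerCat.Q_map_surjective
    ((DerivedCategory.singleFunctorIsoCompQ (ModuleCat.{u} A) 0).inv.app M ≫ φ)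
  refine ⟨(HomologicalComplex.singleObjXSelf (ComplexShape.up ℤ) 0 M).inv ≫ g.f 0, ?_, ?_⟩
  · rw [Category.assoc, g.comm, show ((CochainComplex.singleFunctor (ModuleCat.{u} A) 0).obj M).d 0 1 = 0 from
      (HomologicalComplex.isZero_single_obj_X (ComplexShape.up ℤ) 0 M 1 (by decide)).eq_of_tgt _ _, zero_comp, comp_zero]
  · unfold toD
    rw [show chainOf _ _ = g from chainOf_ext (by rw [chainOf_f, Iso.hom_inv_id_assoc]), hg, Iso.hom_inv_id_app_assoc]

theorem toD_eq_zero_iff [L.IsKInjective] {M : ModuleCat.{u} A} (a : M ⟶ L.X 0) (ha : a ≫ L.d 0 1 = 0) :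
    toD a ha = 0 ↔ ∃ h : M ⟶ L.X (-1), h ≫ L.d (-1) 0 = a := by
  have h1 : toD a ha = 0 ↔ Nonempty (Homotopy (chainOf a ha) 0) := by
    unfold toD
    rw [Preadditive.IsIso.comp_left_eq_zero, ← Functor.map_zero DerivedCategory.Q, DerCat.Q_map_eq_iff, sub_zero]
  rw [h1]
  constructor
  · rintro ⟨ho⟩
    obtain ⟨z, hz⟩ := Cochain.equivHomotopy _ _ ho
    obtain ⟨h, rfl⟩ := Cochain.fromSingleMk_surjective z (-1) (by omega)
    rw [Cochain.δ_fromSingleMk h (by omega) 0 0 (by omega), Cochain.ofHom_zero, add_zero] at hz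
    have := Cochain.congr_v hz 0 0 (add_zero 0)
    rw [Cochain.fromSingleMk_v, Cochain.ofHom_v, chainOf_f, cancel_epi] at this
    exact ⟨h, this.symm⟩
  · rintro ⟨h, rfl⟩
    refine ⟨(Cochain.equivHomotopy _ _).symm ⟨Cochain.fromSingleMk h (by omega : (0 : ℤ) + (-1) = -1), ?_⟩⟩
    rw [Cochain.δ_fromSingleMk h (by omega) 0 0 (by omega), Cochain.ofHom_zero, add_zero]
    refine Cochain.ext _ _ fun p r hpr => ?_
    obtain rfl : p = r := by omega
    by_cases hp : p = 0
    · subst hp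
      rw [Cochain.fromSingleMk_v, Cochain.ofHom_v, chainOf_f]
    · exact (HomologicalComplex.isZero_single_obj_X _ 0 M p hp).eq_of_src _ _

theorem toD_add {M : ModuleCat.{u} A} (a b : M ⟶ L.X 0) (ha : a ≫ L.d 0 1 = 0) (hb : b ≫ L.d 0 1 = 0) :
    toD (a + b) (by rw [Preadditive.add_comp, ha, hb, add_zero]) = toD a ha + toD b hb := by
  unfold toD
  rw [← Preadditive.comp_add, ← Functor.map_add]
  congr 2
  refine chainOf_ext ?_
  rw [HomologicalComplex.add_f_apply, chainOf_f, chainOf_f, chainOf_f, Preadditive.comp_add]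

theorem toD_smul {M : ModuleCat.{u} A} (r : A) (a : M ⟶ L.X 0) (ha : a ≫ L.d 0 1 = 0) :
    toD (r • a) (by rw [Linear.smul_comp, ha, smul_zero]) = r • toD a ha := by
  unfold toD
  refine Eq.trans ?_ (Linear.comp_smul _ _ _ _ _ _)
  rw [← Functor.map_smul]
  congr 2
  refine chainOf_ext ?_
  rw [HomologicalComplex.smul_f_apply, chainOf_f, chainOf_f, Linear.comp_smul]

theorem toD_comp {M N : ModuleCat.{u} A} (v : M ⟶ N) (a : N ⟶ L.X 0) (ha : a ≫ L.d 0 1 = 0) :
    (DerivedCategory.singleFunctor (ModuleCat.{u} A) 0).map v ≫ toD a ha =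
      toD (v ≫ a) (by rw [Category.assoc, ha, comp_zero]) := by
  unfold toD
  rw [← Category.assoc, (DerivedCategory.singleFunctorIsoCompQ (ModuleCat.{u} A) 0).hom.naturality v,
    Category.assoc]
  congr 1
  dsimp only [Functor.comp_map]
  rw [← Functor.map_comp]
  congr 1
  refine chainOf_ext ?_
  simp [chainOf_f, CochainComplex.singleFunctor, CochainComplex.singleFunctors, HomologicalComplex.single_map_f_self]

/-- The diagram `n ↦ Hom(A/I^n, Q L)`. -/
noncomputable abbrev homDiag (I : Ideal A) (L : DRing.Cx A) : (ℕᵒᵖ)ᵒᵖ ⥤ ModuleCat.{u + 1} A :=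
  (localCohomology.ringModIdeals (localCohomology.idealPowersDiagram I) ⋙
    DerivedCategory.singleFunctor (ModuleCat.{u} A) 0).op ⋙
      (linearYoneda A (Dual.D A)).obj (DerivedCategory.Q.obj L)

instance preservesFiltered : PreservesFilteredColimitsOfSize.{0, 0} (forget (ModuleCat.{u + 1} A)) := by
  haveI : PreservesFilteredColimitsOfSize.{0, 0} (forget AddCommGrpCat.{u + 1}) :=
    preservesSmallestFilteredColimits_of_preservesFilteredColimits _
  refine ⟨fun J _ _ => ?_⟩
  exact inferInstanceAs (PreservesColimitsOfShape J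
    (forget₂ (ModuleCat.{u + 1} A) AddCommGrpCat.{u + 1} ⋙ forget AddCommGrpCat.{u + 1}))

/-- Cycles of `Γ_I L` in degree `0`. -/
def cyc (I : Ideal A) (L : DRing.Cx A) : Submodule A (L.X 0) :=
  DRing.torsionSub I (L.X 0) ⊓ LinearMap.ker (L.d 0 1).hom

/-- Boundaries of `Γ_I L` in degree `0`. -/
def bnd (I : Ideal A) (L : DRing.Cx A) : Submodule A (L.X 0) :=
  (DRing.torsionSub I (L.X (-1))).map (L.d (-1) 0).hom

/-- The map `A/I^n ⟶ L⁰`, `1 ↦ x`. -/
noncomputable def spanMap (I : Ideal A) (n : ℕ) {M : ModuleCat.{u} A} (x : M) (hx : ∀ a ∈ I ^ n, a • x = 0) :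
    (localCohomology.ringModIdeals (localCohomology.idealPowersDiagram I)).obj (op n) ⟶ M :=
  ModuleCat.ofHom (Submodule.liftQ (I ^ n) (LinearMap.toSpanSingleton A M x) fun a ha => hx a ha)

theorem spanMap_d {I : Ideal A} {n : ℕ} {x : L.X 0} (hx : ∀ a ∈ I ^ n, a • x = 0) (hd : (L.d 0 1) x = 0) :
    spanMap I n x hx ≫ L.d 0 1 = 0 :=
  ModuleCat.hom_ext (Submodule.linearMap_qext _ (LinearMap.ext_ring (by
    show (L.d 0 1) ((1 : A) • x) = 0
    rw [one_smul, hd])))

theorem map_spanMap {I : Ideal A} {n m : ℕ} {M : ModuleCat.{u} A} (x : M) (hx : ∀ a ∈ I ^ n, a • x = 0)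
    (hx' : ∀ a ∈ I ^ m, a • x = 0) (f : op m ⟶ op n) :
    (localCohomology.ringModIdeals (localCohomology.idealPowersDiagram I)).map f ≫ spanMap I n x hx =
      spanMap I m x hx' :=
  ModuleCat.hom_ext (Submodule.linearMap_qext _ (LinearMap.ext_ring rfl))

theorem eq_spanMap {I : Ideal A} {n : ℕ} {M : ModuleCat.{u} A}
    (a : (localCohomology.ringModIdeals (localCohomology.idealPowersDiagram I)).obj (op n) ⟶ M) :
    ∃ (x : M) (hx : ∀ r ∈ I ^ n, r • x = 0), spanMap I n x hx = a := by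
  refine ⟨a.hom (Submodule.Quotient.mk 1), fun r hr => ?_,
    ModuleCat.hom_ext (Submodule.linearMap_qext _ (LinearMap.ext_ring (one_smul A _)))⟩
  rw [← map_smul, ← Submodule.Quotient.mk_smul]
  exact (congrArg _ ((Submodule.Quotient.mk_eq_zero (I ^ n)).2 (by simpa using hr))).trans (map_zero _)

/-- The class of a cycle at level `n`. -/
noncomputable def classAt (I : Ideal A) (L : DRing.Cx A) (n : ℕ) (x : L.X 0)
    (hx : ∀ a ∈ I ^ n, a • x = 0) (hd : (L.d 0 1) x = 0) : ↥(colimit (homDiag I L)) :=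
  (colimit.ι (homDiag I L) (op (op n))).hom (toD (spanMap I n x hx) (spanMap_d hx hd))

theorem classAt_le (I : Ideal A) (L : DRing.Cx A) {n m : ℕ} (h : n ≤ m) (x : L.X 0)
    (hx : ∀ a ∈ I ^ n, a • x = 0) (hx' : ∀ a ∈ I ^ m, a • x = 0) (hd : (L.d 0 1) x = 0) :
    classAt I L n x hx hd = classAt I L m x hx' hd := by
  have hw := colimit.w (homDiag I L) ((homOfLE h).op.op : op (op n) ⟶ op (op m))
  have := ConcreteCategory.congr_hom hw (toD (spanMap I n x hx) (spanMap_d hx hd))
  refine this.symm.trans (congrArg (colimit.ι (homDiag I L) (op (op m))).hom ?_)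
  show (DerivedCategory.singleFunctor (ModuleCat.{u} A) 0).map
    ((localCohomology.ringModIdeals (localCohomology.idealPowersDiagram I)).map (homOfLE h).op) ≫ toD (spanMap I n x hx) (spanMap_d hx hd) = _
  rw [toD_comp]
  congr 1
  exact map_spanMap x hx hx' _

theorem classAt_congr (I : Ideal A) (L : DRing.Cx A) {n m : ℕ} (x : L.X 0)
    (hx : ∀ a ∈ I ^ n, a • x = 0) (hx' : ∀ a ∈ I ^ m, a • x = 0) (hd : (L.d 0 1) x = 0) :
    classAt I L n x hx hd = classAt I L m x hx' hd :=
  (classAt_le I L (le_max_left n m) x hx (fun a ha => hx a (Ideal.pow_le_pow_right (le_max_left n m) ha)) hd).trans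
    (classAt_le I L (le_max_right n m) x hx' _ hd).symm

/-- The comparison from torsion cycles. -/
noncomputable def psi (I : Ideal A) (L : DRing.Cx A) : cyc I L →ₗ[A] ↥(colimit (homDiag I L)) where
  toFun x := classAt I L _ x.1 x.2.1.choose_spec x.2.2
  map_add' x y := by
    have hx : ∀ a ∈ I ^ max x.2.1.choose y.2.1.choose, a • x.1 = 0 := fun a ha =>
      x.2.1.choose_spec a (Ideal.pow_le_pow_right (le_max_left _ _) ha)
    have hy : ∀ a ∈ I ^ max x.2.1.choose y.2.1.choose, a • y.1 = 0 := fun a ha =>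
      y.2.1.choose_spec a (Ideal.pow_le_pow_right (le_max_right _ _) ha)
    rw [classAt_congr I L x.1 _ hx x.2.2, classAt_congr I L y.1 _ hy y.2.2,
      classAt_congr I L (x + y).1 _ (fun a ha => by rw [Submodule.coe_add, smul_add, hx a ha, hy a ha, add_zero]) (x + y).2.2]
    unfold classAt
    rw [← map_add]
    refine congrArg (colimit.ι (homDiag I L) _).hom (Eq.trans ?_ (toD_add (spanMap I _ x.1 hx) (spanMap I _ y.1 hy) _ _))
    congr 1
    exact ModuleCat.hom_ext (Submodule.linearMap_qext _ (LinearMap.ext_ring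
      (show (1 : A) • (x.1 + y.1) = (1 : A) • x.1 + (1 : A) • y.1 from smul_add _ _ _)))
  map_smul' r x := by
    have hx := x.2.1.choose_spec
    rw [RingHom.id_apply, classAt_congr I L (r • x).1 _ (fun a ha => by rw [Submodule.coe_smul, smul_comm, hx a ha, smul_zero]) (r • x).2.2]
    unfold classAt
    rw [← map_smul]
    refine congrArg (colimit.ι (homDiag I L) _).hom (Eq.trans ?_ (toD_smul r (spanMap I _ x.1 hx) _))
    congr 1
    exact ModuleCat.hom_ext (Submodule.linearMap_qext _ (LinearMap.ext_ring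
      (show (1 : A) • (r • x.1) = r • ((1 : A) • x.1) from smul_comm _ _ _)))

theorem psi_eq (I : Ideal A) (L : DRing.Cx A) (x : cyc I L) {n : ℕ} (hx : ∀ a ∈ I ^ n, a • x.1 = 0) :
    psi I L x = classAt I L n x.1 hx x.2.2 :=
  classAt_congr I L x.1 _ hx x.2.2

theorem psi_surjective (I : Ideal A) (L : DRing.Cx A) [L.IsKInjective] : Function.Surjective (psi I L) := by
  intro y
  obtain ⟨⟨⟨n⟩⟩, φ, rfl⟩ := Concrete.colimit_exists_rep (homDiag I L) y
  obtain ⟨a, ha, rfl⟩ := toD_surjective φ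
  obtain ⟨x, hx, rfl⟩ := eq_spanMap a
  have hd : (L.d 0 1) x = 0 := by
    have h1 : (L.d 0 1) ((1 : A) • x) = 0 := ConcreteCategory.congr_hom ha (Submodule.Quotient.mk (1 : A))
    rwa [one_smul] at h1
  exact ⟨⟨x, ⟨n, hx⟩, hd⟩, psi_eq I L _ hx⟩

theorem ker_psi (I : Ideal A) (L : DRing.Cx A) [L.IsKInjective] :
    LinearMap.ker (psi I L) = (bnd I L).comap (cyc I L).subtype := by
  ext x
  obtain ⟨n, hn⟩ := x.2.1
  rw [LinearMap.mem_ker, psi_eq I L x hn, Submodule.mem_comap]
  constructor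
  · intro h
    obtain ⟨⟨⟨m⟩⟩, g, g', hg⟩ := Concrete.colimit_exists_of_rep_eq (homDiag I L) _ (0 : (homDiag I L).obj (op (op n)))
      (h.trans (map_zero _).symm)
    rw [map_zero] at hg
    have hnm : n ≤ m := leOfHom g.unop.unop
    have hm : ∀ a ∈ I ^ m, a • x.1 = 0 := fun a ha => hn a (Ideal.pow_le_pow_right hnm ha)
    have h2 : toD (spanMap I m x.1 hm) (spanMap_d hm x.2.2) = 0 := by
      refine Eq.trans ?_ hg
      show _ = (DerivedCategory.singleFunctor (ModuleCat.{u} A) 0).map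
        ((localCohomology.ringModIdeals (localCohomology.idealPowersDiagram I)).map g.unop) ≫ toD (spanMap I n x.1 hn) (spanMap_d hn x.2.2)
      rw [toD_comp]
      congr 1
      exact (map_spanMap x.1 hn hm _).symm
    obtain ⟨b, hb⟩ := (toD_eq_zero_iff _ _).1 h2
    obtain ⟨y, hy, rfl⟩ := eq_spanMap b
    refine ⟨y, ⟨m, hy⟩, ?_⟩
    have h1 : (L.d (-1) 0) ((1 : A) • y) = (1 : A) • x.1 := ConcreteCategory.congr_hom hb (Submodule.Quotient.mk (1 : A))
    rwa [one_smul, one_smul] at h1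
  · rintro ⟨y, ⟨m, hy⟩, hyx⟩
    have hm : ∀ a ∈ I ^ max n m, a • x.1 = 0 := fun a ha => hn a (Ideal.pow_le_pow_right (le_max_left n m) ha)
    have hy' : ∀ a ∈ I ^ max n m, a • y = 0 := fun a ha => hy a (Ideal.pow_le_pow_right (le_max_right n m) ha)
    rw [classAt_congr I L x.1 hn hm x.2.2]
    have h2 : toD (spanMap I (max n m) x.1 hm) (spanMap_d hm x.2.2) = 0 :=
      (toD_eq_zero_iff _ _).2 ⟨spanMap I (max n m) y hy', ModuleCat.hom_ext (Submodule.linearMap_qext _
        (LinearMap.ext_ring (show (L.d (-1) 0) ((1 : A) • y) = (1 : A) • x.1 by rw [one_smul, one_smul]; exact hyx)))⟩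
    unfold classAt
    rw [h2]
    exact map_zero _

/-- The colimit of `Hom(A/I^n, Q L)` is `H^0(Γ_I L)`. -/
theorem nonempty_colimit_equiv (I : Ideal A) (L : DRing.Cx A) [L.IsKInjective] :
    Nonempty ((↥(cyc I L) ⧸ (bnd I L).comap (cyc I L).subtype) ≃ₗ[A] ↥(colimit (homDiag I L))) :=
  ⟨(Submodule.quotEquivOfEq _ _ (ker_psi I L).symm).trans ((psi I L).quotKerEquivOfSurjective (psi_surjective I L))⟩

end Groth.Agent.RGammaLib
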