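import Groth.Agent.RGammaLib.InjCx
import Groth.Agent.S0476
import Groth.Agent.S1032

/-!
# `RΓ_I` computed by K-injective complexes
-/

set_option autoImplicit false

universe u

attribute [local instance] HasDerivedCategory.standard

open CategoryTheory Limits

namespace Groth.Agent.RGammaLib

variable {A : Type u} [CommRing A] (I : Ideal A)


theorem exists_kInj (K : DRing.Cx A) :
    ∃ (J : DRing.Cx A) (j : K ⟶ J), J.IsKInjective ∧ QuasiIso j := by
  obtain ⟨J, j, hJ, hj, -, -⟩ := Groth.Agent.S0476.result K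
  exact ⟨J, j, hJ, hj⟩

/-- Every object of `D(A)` is a K-injective complex of injectives. -/
theorem exists_model (K : Dual.D A) :
    ∃ J : DRing.Cx A, J.IsKInjective ∧ (∀ n, Injective (J.X n)) ∧ Nonempty (DerivedCategory.Q.obj J ≅ K) := by
  obtain ⟨J, j, hJ, hj, -, hinj⟩ := Groth.Agent.S0476.result (DerivedCategory.Q.objPreimage K)
  haveI := hj
  exact ⟨J, hJ, hinj, ⟨(asIso (DerivedCategory.Q.map j)).symm ≪≫ DerivedCategory.Q.objObjPreimageIso K⟩⟩

/-- `Γ_I` on `K(A)` of a complex, in `D(A)`. -/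
noncomputable def khIso (P : DRing.Cx A) : (DRing.gammaIKh I).obj ((HomotopyCategory.quotient (ModuleCat.{u} A) (ComplexShape.up ℤ)).obj P) ≅ DerivedCategory.Q.obj ((gammaC I).obj P) :=
  DerivedCategory.Qh.mapIso (((DRing.gammaI I).mapHomotopyCategoryFactors (ComplexShape.up ℤ)).app P) ≪≫
    (DerivedCategory.quotientCompQhIso (ModuleCat.{u} A)).app ((gammaC I).obj P)

theorem khIso_natural {P Q : DRing.Cx A} (φ : P ⟶ Q) :
    (DRing.gammaIKh I).map ((HomotopyCategory.quotient (ModuleCat.{u} A) (ComplexShape.up ℤ)).map φ) ≫ (khIso I Q).hom = (khIso I P).hom ≫ DerivedCategory.Q.map ((gammaC I).map φ) := by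
  dsimp only [khIso, Iso.trans_hom, Functor.mapIso_hom, Iso.app_hom, Functor.comp_map, DRing.gammaIKh]
  have h1 := ((DRing.gammaI I).mapHomotopyCategoryFactors (ComplexShape.up ℤ)).hom.naturality φ
  have h2 := (DerivedCategory.quotientCompQhIso (ModuleCat.{u} A)).hom.naturality ((gammaC I).map φ)
  dsimp only [Functor.comp_map] at h1 h2
  rw [← Category.assoc, ← Functor.map_comp, h1, Functor.map_comp, Category.assoc, h2, ← Category.assoc]

variable [DRing.HasRgammaI I]


/-- The canonical map `Γ_I P ⟶ RΓ_I P`. -/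
noncomputable def eta (P : DRing.Cx A) : DerivedCategory.Q.obj ((gammaC I).obj P) ⟶ (DRing.RgammaI I).obj (DerivedCategory.Q.obj P) :=
  (khIso I P).inv ≫ ((DRing.gammaIKh I).totalRightDerivedUnit DerivedCategory.Qh (HomotopyCategory.quasiIso (ModuleCat.{u} A) (ComplexShape.up ℤ))).app ((HomotopyCategory.quotient (ModuleCat.{u} A) (ComplexShape.up ℤ)).obj P) ≫ (DRing.RgammaI I).map ((DerivedCategory.quotientCompQhIso (ModuleCat.{u} A)).hom.app P)

theorem eta_natural {P Q : DRing.Cx A} (φ : P ⟶ Q) :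
    DerivedCategory.Q.map ((gammaC I).map φ) ≫ eta I Q = eta I P ≫ (DRing.RgammaI I).map (DerivedCategory.Q.map φ) := by
  have h1 : (khIso I P).inv ≫ (DRing.gammaIKh I).map ((HomotopyCategory.quotient (ModuleCat.{u} A) (ComplexShape.up ℤ)).map φ) = DerivedCategory.Q.map ((gammaC I).map φ) ≫ (khIso I Q).inv := by
    rw [Iso.inv_comp_eq, ← Category.assoc, ← khIso_natural, Category.assoc, Iso.hom_inv_id, Category.comp_id]
  have h2 : (DRing.gammaIKh I).map ((HomotopyCategory.quotient (ModuleCat.{u} A) (ComplexShape.up ℤ)).map φ) ≫ ((DRing.gammaIKh I).totalRightDerivedUnit DerivedCategory.Qh (HomotopyCategory.quasiIso (ModuleCat.{u} A) (ComplexShape.up ℤ))).app ((HomotopyCategory.quotient (ModuleCat.{u} A) (ComplexShape.up ℤ)).obj Q) =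
      ((DRing.gammaIKh I).totalRightDerivedUnit DerivedCategory.Qh (HomotopyCategory.quasiIso (ModuleCat.{u} A) (ComplexShape.up ℤ))).app ((HomotopyCategory.quotient (ModuleCat.{u} A) (ComplexShape.up ℤ)).obj P) ≫ (DRing.RgammaI I).map (DerivedCategory.Qh.map ((HomotopyCategory.quotient (ModuleCat.{u} A) (ComplexShape.up ℤ)).map φ)) :=
    ((DRing.gammaIKh I).totalRightDerivedUnit DerivedCategory.Qh (HomotopyCategory.quasiIso (ModuleCat.{u} A) (ComplexShape.up ℤ))).naturality ((HomotopyCategory.quotient (ModuleCat.{u} A) (ComplexShape.up ℤ)).map φ)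
  have h3 := (DerivedCategory.quotientCompQhIso (ModuleCat.{u} A)).hom.naturality φ
  dsimp only [Functor.comp_map] at h3
  dsimp only [eta]
  rw [← Category.assoc, ← h1, Category.assoc, ← Category.assoc ((DRing.gammaIKh I).map _), h2, Category.assoc, ← Functor.map_comp, h3, Functor.map_comp]
  simp only [Category.assoc]

theorem eta_ε (P : DRing.Cx A) :
    eta I P ≫ (DRing.RgammaIε I).app (DerivedCategory.Q.obj P) = DerivedCategory.Q.map (incl I P) := by
  have h1 : (DRing.RgammaI I).map ((DerivedCategory.quotientCompQhIso (ModuleCat.{u} A)).hom.app P) ≫ (DRing.RgammaIε I).app (DerivedCategory.Q.obj P) =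
      (DRing.RgammaIε I).app _ ≫ (DerivedCategory.quotientCompQhIso (ModuleCat.{u} A)).hom.app P :=
    (DRing.RgammaIε I).naturality ((DerivedCategory.quotientCompQhIso (ModuleCat.{u} A)).hom.app P)
  have h2 : ((DRing.gammaIKh I).totalRightDerivedUnit DerivedCategory.Qh (HomotopyCategory.quasiIso (ModuleCat.{u} A) (ComplexShape.up ℤ))).app ((HomotopyCategory.quotient (ModuleCat.{u} A) (ComplexShape.up ℤ)).obj P) ≫ (DRing.RgammaIε I).app (DerivedCategory.Qh.obj ((HomotopyCategory.quotient (ModuleCat.{u} A) (ComplexShape.up ℤ)).obj P)) =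
      (DRing.gammaIτ I).app ((HomotopyCategory.quotient (ModuleCat.{u} A) (ComplexShape.up ℤ)).obj P) := by
    have := Functor.rightDerived_fac_app (DRing.RgammaI I) ((DRing.gammaIKh I).totalRightDerivedUnit DerivedCategory.Qh (HomotopyCategory.quasiIso (ModuleCat.{u} A) (ComplexShape.up ℤ)))
      (HomotopyCategory.quasiIso (ModuleCat.{u} A) (ComplexShape.up ℤ)) (𝟭 (Dual.D A))
      (DRing.gammaIτ I ≫ (Functor.rightUnitor _).inv) ((HomotopyCategory.quotient (ModuleCat.{u} A) (ComplexShape.up ℤ)).obj P)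
    exact this.trans (Category.comp_id _)
  let g : (DRing.gammaI I).mapHomologicalComplex (ComplexShape.up ℤ) ⟶ 𝟭 _ :=
    NatTrans.mapHomologicalComplex (DRing.gammaIι I) (ComplexShape.up ℤ) ≫
      (Functor.mapHomologicalComplexIdIso (ModuleCat.{u} A) (ComplexShape.up ℤ)).hom
  have hg : g.app P = incl I P := HomologicalComplex.hom_ext _ _ fun i => by simp [g, incl]; exact Category.comp_id _
  have h3 : (DRing.gammaIτ I).app ((HomotopyCategory.quotient (ModuleCat.{u} A) (ComplexShape.up ℤ)).obj P) =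
      DerivedCategory.Qh.map (((DRing.gammaI I).mapHomotopyCategoryFactors (ComplexShape.up ℤ)).hom.app P) ≫
        DerivedCategory.Qh.map ((HomotopyCategory.quotient (ModuleCat.{u} A) (ComplexShape.up ℤ)).map (g.app P)) := by
    show (DRing.gammaIτ0 I).app P = _
    simp [DRing.gammaIτ0, g]
  have h4 : DerivedCategory.Qh.map ((HomotopyCategory.quotient (ModuleCat.{u} A) (ComplexShape.up ℤ)).map (g.app P)) ≫ (DerivedCategory.quotientCompQhIso (ModuleCat.{u} A)).hom.app P =
      (DerivedCategory.quotientCompQhIso (ModuleCat.{u} A)).hom.app _ ≫ DerivedCategory.Q.map (g.app P) :=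
    (DerivedCategory.quotientCompQhIso (ModuleCat.{u} A)).hom.naturality (g.app P)
  dsimp only [eta]
  rw [Category.assoc, Category.assoc, h1, reassoc_of% h2, h3, Category.assoc, h4, hg, Iso.inv_comp_eq]
  simp [khIso]

theorem isIso_eta_kInj (J : DRing.Cx A) (hJ : J.IsKInjective) : IsIso (eta I J) := by
  haveI := (Groth.Agent.S1032.result exists_kInj (DRing.gammaIKh I)).2 J hJ
  dsimp only [eta]
  infer_instance

/-- `RΓ_I` of a complex of injectives. -/
theorem isIso_eta [IsNoetherianRing A] (P : DRing.Cx A) [∀ i, Injective (P.X i)] : IsIso (eta I P) := by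
  obtain ⟨J, j, hJ, hj, -, hinj⟩ := Groth.Agent.S0476.result P
  haveI := hinj
  haveI := hj
  haveI := quasiIso_gammaC_map I j
  haveI := isIso_eta_kInj I J hJ
  have h := eta_natural I j
  haveI : IsIso (eta I P ≫ (DRing.RgammaI I).map (DerivedCategory.Q.map j)) := h ▸ inferInstance
  exact IsIso.of_isIso_comp_right (eta I P) ((DRing.RgammaI I).map (DerivedCategory.Q.map j))

end Groth.Agent.RGammaLib
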