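import Groth.Agent.RGammaLib.Restrict
import Groth.Agent.LocCohBasic.BaseChange
import Groth.Agent.FlatInj.Basic
import Groth.Agent.DRingTorAmp.Values

/-!
# Local cohomology and flat base change
-/

set_option autoImplicit false
set_option backward.isDefEq.respectTransparency false
set_option backward.defeqAttrib.useBackward true

universe u

attribute [local instance] HasDerivedCategory.standard

open CategoryTheory Limits Opposite TensorProduct

namespace Groth.Agent.RGammaLib

variable {A B : Type u} [CommRing A] [CommRing B] (φ : A →+* B)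

/-- Termwise base change. -/
noncomputable abbrev escC : DRing.Cx A ⥤ DRing.Cx B :=
  (ModuleCat.extendScalars.{u, u, u} φ).mapHomologicalComplex (ComplexShape.up ℤ)

theorem exact_extendScalars (hφ : φ.Flat) (S : ShortComplex (ModuleCat.{u} A)) (hS : S.Exact) :
    (S.map (ModuleCat.extendScalars.{u, u, u} φ)).Exact := by
  letI := φ.toAlgebra
  haveI : Module.Flat A B := hφ
  rw [ShortComplex.ShortExact.moduleCat_exact_iff_function_exact] at hS ⊢
  exact Module.Flat.lTensor_exact B hS

theorem preservesHomology (hφ : φ.Flat) : (ModuleCat.extendScalars.{u, u, u} φ).PreservesHomology :=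
  (((ModuleCat.extendScalars.{u, u, u} φ).exact_tfae.out 1 2 rfl rfl).1 (exact_extendScalars φ hφ))

theorem quasiIso_esc (hφ : φ.Flat) {P Q : DRing.Cx A} (ψ : P ⟶ Q) [QuasiIso ψ] : QuasiIso ((escC φ).map ψ) := by
  haveI := preservesHomology φ hφ
  infer_instance

/-- Restriction of a flat base change of an injective is injective. -/
theorem injective_restrict_extend (hφ : φ.Flat) [IsNoetherianRing A] (E : ModuleCat.{u} A) [Injective E] :
    Injective ((ModuleCat.restrictScalars.{u} φ).obj
      ((ModuleCat.extendScalars.{u, u, u} φ).obj E)) := by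
  letI := φ.toAlgebra
  haveI : Module.Flat A B := hφ
  haveI : Module.Injective A E := Module.injective_module_of_injective_object A E
  haveI : Module.Injective A (B ⊗[A] E) := Module.Baer.injective fun J g => by
    obtain ⟨z, hz⟩ := FlatInj.exists_eq_smul (F := B) (E := E) ‹_› J g
    exact ⟨LinearMap.toSpanSingleton A (B ⊗[A] E) z, fun x hx => (hz ⟨x, hx⟩).symm⟩
  refine Injective.of_iso (LinearEquiv.toModuleIso (X₁ := B ⊗[A] E)
    (X₂ := (ModuleCat.restrictScalars.{u} φ).obj
      ((ModuleCat.extendScalars.{u, u, u} φ).obj E))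
    { toFun := fun x => x, map_add' := fun _ _ => rfl
      map_smul' := fun r x => (algebraMap_smul B r x).symm
      invFun := fun x => x, left_inv := fun _ => rfl, right_inv := fun _ => rfl })
    (Module.injective_object_of_injective_module A (B ⊗[A] E))

/-- The comparison `B ⊗ Γ_I M ⟶ Γ_{IB}(B ⊗ M)`. -/
noncomputable def bcGamma (I : Ideal A) (M : ModuleCat.{u} A) :
    (ModuleCat.extendScalars.{u, u, u} φ).obj ((DRing.gammaI I).obj M) ⟶
      (DRing.gammaI (I.map φ)).obj ((ModuleCat.extendScalars.{u, u, u} φ).obj M) :=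
  letI := φ.toAlgebra
  ModuleCat.ofHom (LinearMap.codRestrict
    (DRing.torsionSub (I.map φ) ((ModuleCat.extendScalars.{u, u, u} φ).obj M))
    ((DRing.torsionSub I M).subtype.baseChange B) fun x => by
      induction x using TensorProduct.induction_on with
      | zero => rw [map_zero]; exact Submodule.zero_mem _
      | add a b ha hb => rw [map_add]; exact Submodule.add_mem _ ha hb
      | tmul r m =>
        obtain ⟨n, hn⟩ := m.2
        refine (LocCohBasic.mem_torsionSub_map_iff (M := B ⊗[A] M) I).2 ⟨n, fun a ha => ?_⟩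
        show a • (r ⊗ₜ[A] (m.1 : M)) = 0
        rw [← TensorProduct.tmul_smul, hn a ha, TensorProduct.tmul_zero])

theorem bcGamma_bijective (hφ : φ.Flat) [IsNoetherianRing A] (I : Ideal A) (M : ModuleCat.{u} A) :
    Function.Bijective (bcGamma φ I M).hom := by
  letI := φ.toAlgebra
  haveI : Module.Flat A B := hφ
  refine ⟨fun x y h => ?_, fun y => ?_⟩
  · exact Module.Flat.lTensor_preserves_injective_linearMap (M := B) (DRing.torsionSub I M).subtype
      Subtype.val_injective (congrArg Subtype.val h)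
  · obtain ⟨x, hx⟩ := (LocCohBasic.mem_torsionSub_baseChange (R' := B) I (M := M) (x := y.1)).1 y.2
    exact ⟨x, Subtype.ext hx⟩

/-- `Γ_{IB}` of the base change is the base change of `Γ_I`. -/
noncomputable def bcGammaIso (hφ : φ.Flat) [IsNoetherianRing A] (I : Ideal A) (L : DRing.Cx A) :
    (escC φ).obj ((gammaC I).obj L) ≅ (gammaC (I.map φ)).obj ((escC φ).obj L) :=
  haveI : ∀ n, IsIso (bcGamma φ I (L.X n)) := fun n =>
    (ConcreteCategory.isIso_iff_bijective _).2 (bcGamma_bijective φ hφ I (L.X n))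
  HomologicalComplex.Hom.isoOfComponents (fun n => asIso (bcGamma φ I (L.X n))) fun n m _ => by
    refine ModuleCat.hom_ext (LinearMap.ext fun x => Subtype.ext ?_)
    induction x using TensorProduct.induction_on with
    | zero => simp
    | add a b ha hb =>
      rw [map_add, map_add]
      exact congrArg₂ (· + ·) ha hb
    | tmul r m => rfl

theorem nonempty_lBaseChange_iso (hφ : φ.Flat) [DRing.HasLBaseChange φ] (C : DRing.Cx A) :
    Nonempty ((DRing.LBaseChange φ).obj (DerivedCategory.Q.obj C) ≅
      DerivedCategory.Q.obj ((escC φ).obj C)) := by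
  letI := φ.toAlgebra
  haveI : Module.Flat A B := hφ
  obtain ⟨P, π, hP, hπ, -⟩ := DRingKProj.exists_resolution C
  haveI := hP
  haveI := hπ
  haveI := quasiIso_esc φ hφ π
  obtain ⟨e⟩ := DRingTorAmp.exists_lBaseChange_iso φ (DRingTorAmp.isKFl_of_isKProjective P)
  exact ⟨(DRing.LBaseChange φ).mapIso (asIso (DerivedCategory.Q.map π)).symm ≪≫ e ≪≫
    asIso (DerivedCategory.Q.map ((escC φ).map π))⟩

theorem nonempty_HDI_baseChange (hφ : φ.Flat) [IsNoetherianRing A] [IsNoetherianRing B]
    [DRing.HasLBaseChange φ] (I : Ideal A) (K : Dual.D A) (i : ℤ) :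
    Nonempty (Dual2.HDI B (I.map φ) ((DRing.LBaseChange φ).obj K) i ≅
      (ModuleCat.extendScalars φ).obj (Dual2.HDI A I K i)) := by
  letI := φ.toAlgebra
  haveI : Module.Flat A B := hφ
  haveI := preservesHomology φ hφ
  obtain ⟨C, hC, hCinj, ⟨eC⟩⟩ := exists_model K
  haveI := hC
  haveI := hCinj
  let C' : DRing.Cx A := C⟦i⟧
  haveI : ∀ n, Injective (C'.X n) := fun n => hCinj _
  obtain ⟨L, j, hL, hj, -, hLinj⟩ := Groth.Agent.S0476.result ((escC φ).obj C')
  haveI := hL
  haveI := hj
  haveI := hLinj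
  obtain ⟨eB⟩ := nonempty_lBaseChange_iso φ hφ C
  let eL : DerivedCategory.Q.obj L ≅ ((DRing.LBaseChange φ).obj K)⟦i⟧ :=
    (asIso (DerivedCategory.Q.map j)).symm ≪≫
      DerivedCategory.Q.mapIso (((escC φ).commShiftIso i).app C) ≪≫
      (DerivedCategory.Q.commShiftIso i).app _ ≪≫
      (shiftFunctor (Dual.D B) i).mapIso (eB.symm ≪≫ (DRing.LBaseChange φ).mapIso eC)
  obtain ⟨a1⟩ := nonempty_HDI_equiv (I.map φ) _ i L eL
  obtain ⟨b1⟩ := nonempty_HDI_equiv I K i C'
    ((DerivedCategory.Q.commShiftIso i).app C ≪≫ (shiftFunctor (Dual.D A) i).mapIso eC)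
  haveI : QuasiIso ((gammaC (I.map φ)).map j) := by
    haveI := preservesHomology φ hφ
    have hdiv : ∀ (N : ModuleCat.{u} B), Injective ((ModuleCat.restrictScalars.{u} φ).obj N) →
        ∀ (J : Ideal A) (f : A), DivF (φ f) ((DRing.gammaI (J.map φ)).obj N) := by
      intro N hN J f x k
      obtain ⟨c, y, hy⟩ := divT_of_injective ((ModuleCat.restrictScalars.{u} φ).obj N) J f
        ⟨x.1, (mem_torsion_restrict φ J _).2 x.2⟩ k
      refine ⟨c, ⟨y.1, (mem_torsion_restrict φ J _).1 y.2⟩, Subtype.ext ?_⟩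
      have h1 : φ (f ^ c) • (φ (f ^ k) • (show N from y.1) - x.1) = 0 := congrArg Subtype.val hy
      show (φ f) ^ c • ((φ f) ^ k • (show N from y.1) - x.1) = 0
      rw [← map_pow, ← map_pow]
      exact h1
    haveI := quasiIso_gammaC_map' I ((resC φ).map j)
      (fun n => @divT_of_injective A _ _ ((ModuleCat.restrictScalars.{u} φ).obj
        ((ModuleCat.extendScalars.{u, u, u} φ).obj (C'.X n))) (injective_restrict_extend φ hφ (C'.X n)))
      (fun n => divT_restrict φ (L.X n))
    refine ⟨fun n => ?_⟩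
    have h : QuasiIso ((resC φ).map ((gammaC (I.map φ)).map j)) := by
      have hnat : (resC φ).map ((gammaC (I.map φ)).map j) =
          (gammaResIso φ I _).inv ≫ (gammaC I).map ((resC φ).map j) ≫
            (gammaResIso φ I L).hom := by
        rw [Iso.eq_inv_comp]
        exact HomologicalComplex.hom_ext _ _ fun _ => rfl
      rw [hnat]; infer_instance
    haveI := h
    exact ((HomologicalComplex.quasiIso_map_iff_of_preservesHomology _ (ModuleCat.restrictScalars.{u} φ)).1 h).quasiIsoAt n
  let M := (gammaC I).obj C'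
  let a2 : (ModuleCat.extendScalars.{u, u, u} φ).obj
      ((DerivedCategory.homologyFunctor (ModuleCat.{u} A) 0).obj (DerivedCategory.Q.obj M)) ≃ₗ[B]
      Dual.HD B (DerivedCategory.Q.obj ((gammaC (I.map φ)).obj L)) 0 :=
    Iso.toLinearEquiv ((ModuleCat.extendScalars.{u, u, u} φ).mapIso
        ((DerivedCategory.homologyFunctorFactors _ 0).app M) ≪≫
      ((M.sc 0).mapHomologyIso (ModuleCat.extendScalars.{u, u, u} φ)).symm ≪≫
      ((DerivedCategory.homologyFunctorFactors _ 0).app ((escC φ).obj M)).symm ≪≫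
      (DerivedCategory.homologyFunctor (ModuleCat.{u} B) 0).mapIso
        (DerivedCategory.Q.mapIso (bcGammaIso φ hφ I C') ≪≫ asIso (DerivedCategory.Q.map ((gammaC (I.map φ)).map j))))
  let X := (DerivedCategory.homologyFunctor (ModuleCat.{u} A) 0).obj (DerivedCategory.Q.obj M)
  let b2 : B ⊗[A] X ≃ₗ[B] B ⊗[A] ↥(Dual2.HDI A I K i) :=
    TensorProduct.AlgebraTensorModule.congr (LinearEquiv.refl B B) b1
  exact ⟨LinearEquiv.toModuleIso (X₁ := Dual2.HDI B (I.map φ) ((DRing.LBaseChange φ).obj K) i)
    (X₂ := (ModuleCat.extendScalars φ).obj (Dual2.HDI A I K i))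
    (a1.symm ≪≫ₗ a2.symm ≪≫ₗ b2)⟩

end Groth.Agent.RGammaLib
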