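import Groth.Agent.RGammaLib.Torsion
import Groth.Agent.DRingComplete.Orth
import Groth.Agent.DRingComplete.Closure
import Groth.Agent.FlatTorsHom.Devissage
import Mathlib.Algebra.Homology.DerivedCategory.ShortExact

/-!
# Greenlees–May duality
-/

set_option autoImplicit false
set_option backward.isDefEq.respectTransparency false
set_option backward.defeqAttrib.useBackward true

universe u

attribute [local instance] HasDerivedCategory.standard

open CategoryTheory Limits Pretriangulated

namespace Groth.Agent.RGammaLib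

open Groth.Agent.DRingComplete (tel)
open Groth.Agent.FlatTorsHom (HKilled)

variable {A : Type u} [CommRing A]

theorem isDerivedComplete_shift {I : Ideal A} {L : Dual.D A} (h : DRing.IsDerivedComplete I L) (k : ℤ) :
    DRing.IsDerivedComplete I (L⟦k⟧) := fun f hf n => by
  haveI := h f hf (k + n)
  exact (Iso.homCongr (Iso.refl _) ((shiftFunctorAdd (Dual.D A) k n).app L)).symm.subsingleton

theorem bijective_tel_of_killed {M : Type u} [AddCommGroup M] [Module A M] {f : A} {m : ℕ}
    (h : ∀ x : M, f ^ m • x = 0) : Function.Bijective (tel f M) := by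
  constructor
  · rw [injective_iff_map_eq_zero]
    intro x hx
    have h1 : ∀ i, x i = f • x (i + 1) := fun i => sub_eq_zero.1 (congrFun hx i)
    have h2 : ∀ k i, x i = f ^ k • x (i + k) := by
      intro k
      induction k with
      | zero => intro i; simp
      | succ k ih => intro i; rw [ih i, h1 (i + k), smul_smul, ← pow_succ]; rfl
    exact funext fun i => (h2 m i).trans (h _)
  · intro y
    refine ⟨fun i => ∑ j ∈ Finset.range m, f ^ j • y (i + j), funext fun i => ?_⟩
    rw [DRingComplete.tel_apply, Finset.smul_sum]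
    have e : ∀ j, f • f ^ j • y (i + 1 + j) = f ^ (j + 1) • y (i + (j + 1)) := fun j => by
      rw [smul_smul, ← pow_succ', add_right_comm, add_assoc]
    simp only [e]
    rw [← Finset.sum_sub_distrib, Finset.sum_range_sub' (fun j => f ^ j • y (i + j)) m, h, sub_zero, pow_zero,
      one_smul, add_zero]

theorem isDerivedComplete_of_hKilled {I K : Ideal A} (hIK : I ≤ K) {W : Dual.D A} (h : HKilled K W) :
    DRing.IsDerivedComplete I W := by
  rw [DRingComplete.isDerivedComplete_iff_forall_inD]
  intro i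
  rw [DRingComplete.isDerivedComplete_inD_iff]
  intro f hf
  obtain ⟨m, hm⟩ := h i
  exact bijective_tel_of_killed (m := m) fun x => hm _ (Ideal.pow_mem_pow (hIK hf) m) x

/-- Every cohomology class is killed by a power of each element of `I`. -/
def ElTors (I : Ideal A) (W : Dual.D A) : Prop :=
  ∀ g ∈ I, ∀ (j : ℤ) (x : Dual.HD A W j), ∃ n : ℕ, g ^ n • x = 0

theorem elTors_of_isPowerTorsion {I : Ideal A} {W : Dual.D A}
    (h : ∀ j, LocCoh.IsPowerTorsion I (Dual.HD A W j)) : ElTors I W := fun g hg j x => by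
  obtain ⟨n, hn⟩ := h j x
  exact ⟨n, hn _ (Ideal.pow_mem_pow hg n)⟩

theorem elTors_obj₃ {I : Ideal A} (T : Triangle (Dual.D A)) (hT : T ∈ distTriang (Dual.D A))
    (h₁ : ElTors I T.obj₁) (h₂ : ElTors I T.obj₂) : ElTors I T.obj₃ := fun g hg j z => by
  let H := DerivedCategory.homologyFunctor (ModuleCat.{u} A)
  let δ : Dual.HD A T.obj₃ j →ₗ[A] Dual.HD A T.obj₁ (j + 1) := (DerivedCategory.HomologySequence.δ T j (j + 1) rfl).hom
  have h3 : Function.Exact ((H j).map T.mor₂).hom δ :=
    (ShortComplex.ShortExact.moduleCat_exact_iff_function_exact _).1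
      (DerivedCategory.HomologySequence.exact₃ _ hT j (j + 1) rfl)
  obtain ⟨n, hn⟩ := h₁ g hg (j + 1) (δ z)
  obtain ⟨x, hx⟩ := (h3 (g ^ n • z)).1 (by rw [map_smul]; exact hn)
  obtain ⟨m, hm⟩ := h₂ g hg j x
  refine ⟨m + n, ?_⟩
  rw [pow_add, mul_smul, ← hx, ← map_smul, hm]
  exact map_zero _

theorem isZero_of_orth_aux (I : Ideal A) : ∀ (l : List A), (∀ a ∈ l, a ∈ I) → ∀ K : Ideal A,
    I ≤ Ideal.span {a | a ∈ l} ⊔ K → ∀ W : Dual.D A, HKilled K W → ElTors I W →
      (∀ L, DRing.IsDerivedComplete I L → Subsingleton (W ⟶ L)) → IsZero W := by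
  intro l
  induction l with
  | nil =>
    intro _ K hK W hW _ horth
    haveI := horth W (isDerivedComplete_of_hKilled (by simpa using hK) hW)
    exact (IsZero.iff_id_eq_zero W).2 (Subsingleton.elim _ _)
  | cons a l ih =>
    intro hl K hK W hW htors horth
    have hK' : I ≤ Ideal.span {b | b ∈ l} ⊔ (K ⊔ Ideal.span {a}) := by
      refine hK.trans (sup_le (Ideal.span_le.2 fun b hb => ?_) (le_sup_of_le_right le_sup_left))
      rcases List.mem_cons.1 hb with rfl | hb
      · exact Ideal.mem_sup_right (Ideal.mem_sup_right (Ideal.mem_span_singleton_self _))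
      · exact Ideal.mem_sup_left (Ideal.subset_span hb)
    obtain ⟨Z, q, r, hT⟩ := distinguished_cocone_triangle ((a ^ 1) • 𝟙 W)
    have hZ : IsZero Z := by
      refine ih (fun b hb => hl b (List.mem_cons_of_mem _ hb)) _ hK' Z
        (FlatTorsHom.hKilled_cone a 1 hW q r hT) (elTors_obj₃ _ hT htors htors) fun L hL => ?_
      refine subsingleton_of_forall_eq 0 fun φ => ?_
      haveI := horth L hL
      obtain ⟨ψ, hψ⟩ := Triangle.yoneda_exact₃ _ hT φ (@Subsingleton.elim _ (horth L hL) _ _)
      have hs : Subsingleton (W⟦(1 : ℤ)⟧ ⟶ L) := by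
        exact @Equiv.subsingleton _ _ (((shiftEquiv (Dual.D A) (1 : ℤ)).toAdjunction).homEquiv W L)
          (horth (L⟦(-1 : ℤ)⟧) (isDerivedComplete_shift hL _))
      rw [hψ, hs.elim ψ 0, comp_zero]
    haveI hiso : IsIso ((a ^ 1) • 𝟙 W) := (Triangle.isZero₃_iff_isIso₁ _ hT).1 hZ
    have hsub : ∀ j, Subsingleton (Dual.HD A W j) := fun j => by
      refine subsingleton_of_forall_eq 0 fun x => ?_
      have hinj : Function.Injective (fun y : Dual.HD A W j => a • y) := fun y z hyz => by
        have hb := ((ConcreteCategory.isIso_iff_bijective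
          ((DerivedCategory.homologyFunctor (ModuleCat.{u} A) j).map ((a ^ 1) • 𝟙 W))).1 inferInstance).1
        refine hb ?_
        rw [FlatTorsHom.homology_map_smul, FlatTorsHom.homology_map_smul, pow_one]
        exact hyz
      obtain ⟨n, hn⟩ := htors a (hl a List.mem_cons_self) j x
      induction n generalizing x with
      | zero => simpa using hn
      | succ n ih' =>
        refine ih' x (hinj ?_)
        dsimp only
        rw [smul_zero, smul_smul, ← pow_succ', hn]
    rw [IsZero.iff_id_eq_zero]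
    haveI : IsIso (0 : W ⟶ W) := by
      rw [DerivedCategory.isIso_iff]
      intro j
      haveI := hsub j
      exact (ConcreteCategory.isIso_iff_bijective _).2 ⟨fun a b _ => Subsingleton.elim _ _, fun b => ⟨0, Subsingleton.elim _ _⟩⟩
    rw [← cancel_mono (0 : W ⟶ W), comp_zero, comp_zero]

/-- A torsion object orthogonal to all derived complete objects vanishes. -/
theorem isZero_of_orth (I : Ideal A) (hI : I.FG) (W : Dual.D A) (htors : ElTors I W)
    (horth : ∀ L, DRing.IsDerivedComplete I L → Subsingleton (W ⟶ L)) : IsZero W := by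
  obtain ⟨s, hs⟩ := hI
  refine isZero_of_orth_aux I s.toList (fun a ha => hs ▸ Ideal.subset_span (by simpa using ha)) ⊥ ?_ W
    (fun j => ⟨1, fun a ha x => ?_⟩) htors horth
  · rw [← hs, sup_bot_eq]
    exact Ideal.span_mono fun a ha => by simpa using ha
  · rw [pow_one, Ideal.mem_bot] at ha
    rw [ha, zero_smul]

variable [IsNoetherianRing A] (I : Ideal A)

/-- The quotient `P/Γ_J P`. -/
noncomputable def quotSES (J : Ideal A) (P : DRing.Cx A) : ShortComplex (DRing.Cx A) :=
  ShortComplex.mk (incl J P) (cokernel.π (incl J P)) (cokernel.condition _)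

theorem quotSES_shortExact (J : Ideal A) (P : DRing.Cx A) : (quotSES J P).ShortExact := by
  haveI : Mono (incl J P) := HomologicalComplex.mono_of_mono_f _ fun i =>
    (ModuleCat.mono_iff_injective _).2 Subtype.val_injective
  exact
    { exact := ShortComplex.exact_of_g_is_cokernel _ (cokernelIsCokernel _)
      mono_f := inferInstanceAs (Mono (incl J P))
      epi_g := inferInstanceAs (Epi (cokernel.π (incl J P))) }

theorem injective_quot (J : Ideal A) (P : DRing.Cx A) [∀ i, Injective (P.X i)] (i : ℤ) :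
    Injective ((quotSES J P).X₃.X i) := by
  have h := (quotSES_shortExact J P).map_of_exact (HomologicalComplex.eval (ModuleCat.{u} A) (ComplexShape.up ℤ) i)
  haveI : Injective ((DRing.gammaI J).obj (P.X i)) := inferInstance
  haveI : Injective ((quotSES J P).map (HomologicalComplex.eval (ModuleCat.{u} A) (ComplexShape.up ℤ) i)).X₁ :=
    inferInstanceAs (Injective ((DRing.gammaI J).obj (P.X i)))
  exact Retract.injective (Y := P.X i) (i := inferInstance)
    { i := h.splittingOfInjective.s, r := (quotSES J P).g.f i, retract := h.splittingOfInjective.s_g }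

theorem bijective_smul_quot (a : A) (P : DRing.Cx A) [∀ i, Injective (P.X i)] (i : ℤ) :
    Function.Bijective (fun x : (quotSES (Ideal.span {a}) P).X₃.X i => a • x) := by
  have h := (quotSES_shortExact (Ideal.span {a}) P).map_of_exact
    (HomologicalComplex.eval (ModuleCat.{u} A) (ComplexShape.up ℤ) i)
  let g := (quotSES (Ideal.span {a}) P).g.f i
  have hker : ∀ x : P.X i, g x = 0 ↔ x ∈ DRing.torsionSub (Ideal.span {a}) (P.X i) := fun x =>
    ⟨fun hx => by
      obtain ⟨y, hy⟩ := ((ShortComplex.ShortExact.moduleCat_exact_iff_function_exact _).1 h.exact x).1 hx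
      exact hy ▸ y.2,
    fun hx => ((ShortComplex.ShortExact.moduleCat_exact_iff_function_exact _).1 h.exact x).2 ⟨⟨x, hx⟩, rfl⟩⟩
  have hs : Function.Surjective g.hom := h.moduleCat_surjective_g
  refine ⟨fun x y hxy => ?_, fun y => ?_⟩
  · rw [← sub_eq_zero]
    obtain ⟨z, hz⟩ := hs (x - y)
    have h1 : g (a • z) = 0 := by rw [map_smul, hz, smul_sub]; exact sub_eq_zero.2 hxy
    rw [hker, LocCohBasic.mem_torsionSub_span_singleton] at h1
    obtain ⟨n, hn⟩ := h1
    rw [← hz, hker, LocCohBasic.mem_torsionSub_span_singleton]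
    exact ⟨n + 1, by rw [pow_succ, mul_smul, hn]⟩
  · obtain ⟨z, rfl⟩ := hs y
    haveI : Module.Injective A ((quotSES (Ideal.span {a}) P).X₂.X i) := Module.injective_module_of_injective_object A (P.X i)
    obtain ⟨c, w, hw⟩ := LocCohBasic.exists_pow_smul_smul_sub_eq_zero a z 1
    refine ⟨g w, ?_⟩
    dsimp only
    rw [← sub_eq_zero, ← map_smul, ← map_sub, hker, LocCohBasic.mem_torsionSub_span_singleton]
    exact ⟨c, by rw [← hw, pow_one]⟩

theorem subsingleton_hom_of_acyclic_gammaC : ∀ (l : List A), (∀ a ∈ l, a ∈ I) → ∀ (P : DRing.Cx A)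
    [∀ i, Injective (P.X i)], ((gammaC (Ideal.span {a | a ∈ l})).obj P).Acyclic →
      ∀ L, DRing.IsDerivedComplete I L → Subsingleton (DerivedCategory.Q.obj P ⟶ L) := by
  intro l
  induction l with
  | nil =>
    intro _ P _ hac L _
    have hall : ∀ (M : ModuleCat.{u} A) (x : M), x ∈ DRing.torsionSub (Ideal.span {a : A | a ∈ ([] : List A)}) M :=
      fun M x => ⟨1, fun b hb => by simp at hb; rw [hb, zero_smul]⟩
    haveI : ∀ i, IsIso ((incl (Ideal.span {a : A | a ∈ ([] : List A)}) P).f i) := fun i =>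
      (ConcreteCategory.isIso_iff_bijective _).2 ⟨Subtype.val_injective, fun x => ⟨⟨x, hall _ x⟩, rfl⟩⟩
    haveI : IsIso (incl (Ideal.span {a : A | a ∈ ([] : List A)}) P) := HomologicalComplex.Hom.isIso_of_components _
    have hP : P.Acyclic := DRingKFlat.acyclic_of_iso (asIso (incl (Ideal.span {a : A | a ∈ ([] : List A)}) P)) hac
    have h0 : IsZero (DerivedCategory.Q.obj P) := by
      haveI : QuasiIso (0 : P ⟶ P) := ⟨fun n => (quasiIsoAt_iff_exactAt _ _ (hP n)).2 (hP n)⟩
      haveI : IsIso (0 : DerivedCategory.Q.obj P ⟶ DerivedCategory.Q.obj P) := by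
        rw [← Functor.map_zero DerivedCategory.Q]; infer_instance
      rw [IsZero.iff_id_eq_zero, ← cancel_mono (0 : DerivedCategory.Q.obj P ⟶ DerivedCategory.Q.obj P),
        comp_zero, comp_zero]
    exact subsingleton_of_forall_eq 0 fun φ => h0.eq_of_src _ _
  | cons a l ih =>
    intro hl P _ hac L hL
    let J := Ideal.span {b | b ∈ l}
    have hJ : Ideal.span {b | b ∈ a :: l} = J ⊔ Ideal.span {a} := by
      rw [← Ideal.span_union]
      congr 1
      ext b
      simp [or_comm]
    haveI : ∀ i, Injective (((gammaC (Ideal.span {a})).obj P).X i) := fun i =>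
      inferInstanceAs (Injective ((DRing.gammaI (Ideal.span {a})).obj (P.X i)))
    let t : (gammaC (Ideal.span {b | b ∈ a :: l})).obj P ≅
        (gammaC J).obj ((gammaC (Ideal.span {a})).obj P) :=
      HomologicalComplex.Hom.isoOfComponents (fun n => LinearEquiv.toModuleIso
        { toFun := fun x => ⟨⟨x.1, by
              have h : x.1 ∈ DRing.torsionSub (J ⊔ Ideal.span {a}) (P.X n) :=
                (congrArg (fun K => x.1 ∈ DRing.torsionSub K (P.X n)) hJ).mp x.2
              exact (LocCohBasic.mem_torsionSub_sup.1 h).2⟩, by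
              have h : x.1 ∈ DRing.torsionSub (J ⊔ Ideal.span {a}) (P.X n) :=
                (congrArg (fun K => x.1 ∈ DRing.torsionSub K (P.X n)) hJ).mp x.2
              obtain ⟨m, hm⟩ := (LocCohBasic.mem_torsionSub_sup.1 h).1
              exact ⟨m, fun b hb => Subtype.ext (hm b hb)⟩⟩
          map_add' := fun _ _ => rfl
          map_smul' := fun _ _ => rfl
          invFun := fun x => ⟨x.1.1, by
              rw [hJ, LocCohBasic.mem_torsionSub_sup]
              obtain ⟨m, hm⟩ := x.2
              exact ⟨⟨m, fun b hb => congrArg Subtype.val (hm b hb)⟩, x.1.2⟩⟩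
          left_inv := fun _ => rfl
          right_inv := fun _ => rfl }) (fun n m _ => rfl)
    haveI h1 := ih (fun b hb => hl b (List.mem_cons_of_mem _ hb)) ((gammaC (Ideal.span {a})).obj P)
      (DRingKFlat.acyclic_of_iso t hac) L hL
    haveI : IsIso (a • 𝟙 (DerivedCategory.Q.obj (quotSES (Ideal.span {a}) P).X₃)) :=
      DRingComplete.isIso_smul_toD a _ (bijective_smul_quot a P)
    haveI h3 : Subsingleton (DerivedCategory.Q.obj (quotSES (Ideal.span {a}) P).X₃ ⟶ L) :=
      DRingComplete.subsingleton_hom_of_isIso_smul a _ L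
        ((DRingComplete.isDerivedComplete_iff_homology I L).1 hL a (hl a List.mem_cons_self))
    refine subsingleton_of_forall_eq 0 fun φ => ?_
    obtain ⟨ψ, hψ⟩ := Triangle.yoneda_exact₂ _
      (DerivedCategory.triangleOfSES_distinguished (quotSES_shortExact (Ideal.span {a}) P)) φ (h1.elim _ _)
    rw [hψ, h3.elim ψ 0, comp_zero]

variable [DRing.HasRgammaI I]

/-- `RΓ_I K ⟶ K` is a derived-completion equivalence. -/
theorem bijective_ε_precomp (K L : Dual.D A) (hL : DRing.IsDerivedComplete I L) :
    Function.Bijective (fun f : K ⟶ L => (DRing.RgammaIε I).app K ≫ f) := by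
  obtain ⟨C, hC, hinj, ⟨e⟩⟩ := exists_model K
  haveI := hinj
  haveI := isIso_eta_kInj I C hC
  suffices h : Function.Bijective (fun f : DerivedCategory.Q.obj C ⟶ L => DerivedCategory.Q.map (incl I C) ≫ f) by
    let a := asIso (eta I C) ≪≫ (DRing.RgammaI I).mapIso e
    have ha : a.hom ≫ (DRing.RgammaIε I).app K = DerivedCategory.Q.map (incl I C) ≫ e.hom := by
      rw [← eta_ε]
      simp only [a, Iso.trans_hom, asIso_hom, Functor.mapIso_hom, Category.assoc]
      exact congrArg (eta I C ≫ ·) ((DRing.RgammaIε I).naturality e.hom)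
    refine ⟨fun f g hfg => (cancel_epi e.hom).1 (h.1 ?_), fun v => ?_⟩
    · dsimp only
      rw [← Category.assoc, ← Category.assoc, ← ha, Category.assoc, Category.assoc]
      exact congrArg (a.hom ≫ ·) hfg
    · obtain ⟨f, hf⟩ := h.2 (a.hom ≫ v)
      refine ⟨e.inv ≫ f, (cancel_epi a.hom).1 ?_⟩
      dsimp only
      rw [← Category.assoc, ha, Category.assoc, Iso.hom_inv_id_assoc]
      exact hf
  obtain ⟨s, hs⟩ := (IsNoetherian.noetherian I : I.FG)
  have hspan : Ideal.span {a | a ∈ s.toList} = I := by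
    rw [← hs]; congr 1; ext; simp
  let X := (quotSES I C).X₃
  haveI : ∀ i, Injective (X.X i) := fun i => injective_quot I C i
  have hz : ∀ i (x : X.X i), x ∈ DRing.torsionSub I (X.X i) → x = 0 := fun i x hx => by
    have hse := (quotSES_shortExact I C).map_of_exact (HomologicalComplex.eval (ModuleCat.{u} A) (ComplexShape.up ℤ) i)
    obtain ⟨z, rfl⟩ := hse.moduleCat_surjective_g x
    refine ((ShortComplex.ShortExact.moduleCat_exact_iff_function_exact _).1 hse.exact z).2 ⟨⟨z, ?_⟩, rfl⟩
    obtain ⟨n, hn⟩ := hx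
    have h1 : ∀ b ∈ I ^ n, b • z ∈ DRing.torsionSub I (C.X i) := fun b hb => by
      obtain ⟨y, hy⟩ := ((ShortComplex.ShortExact.moduleCat_exact_iff_function_exact _).1 hse.exact (b • z)).1
        ((map_smul _ b z).trans (hn b hb))
      exact hy ▸ y.2
    obtain ⟨S, hS⟩ := (IsNoetherian.noetherian (I ^ n) : (I ^ n).FG)
    obtain ⟨m, hm⟩ : ∃ m : ℕ, ∀ b ∈ S, ∀ c ∈ I ^ m, c • b • z = 0 := by
      classical
      choose m hm using fun b : S => h1 b.1 (hS ▸ Ideal.subset_span b.2)
      exact ⟨Finset.univ.sup m, fun b hb c hc =>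
        hm ⟨b, hb⟩ c (Ideal.pow_le_pow_right (Finset.le_sup (f := m) (Finset.mem_univ ⟨b, hb⟩)) hc)⟩
    refine ⟨m + n, fun c hc => ?_⟩
    rw [pow_add] at hc
    refine Submodule.mul_induction_on hc (fun c₁ h₁ b hb => ?_) (fun x y hx hy => by rw [add_smul, hx, hy, add_zero])
    rw [← hS] at hb
    have hle : Ideal.span (S : Set A) ≤ (LinearMap.toSpanSingleton A (C.X i) (c₁ • z)).ker :=
      Ideal.span_le.2 fun b hb => by
        show b • c₁ • z = 0
        rw [smul_comm]; exact hm b hb c₁ h₁
    rw [mul_comm, mul_smul]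
    exact hle hb
  have hac : ((gammaC (Ideal.span {a | a ∈ s.toList})).obj X).Acyclic := fun j => by
    rw [hspan, HomologicalComplex.exactAt_iff]
    refine ShortComplex.exact_of_isZero_X₂ _ (ModuleCat.isZero_of_iff_subsingleton.2 ?_)
    exact subsingleton_of_forall_eq 0 fun x => Subtype.ext (hz j x.1 x.2)
  have hX : ∀ L, DRing.IsDerivedComplete I L → Subsingleton (DerivedCategory.Q.obj X ⟶ L) :=
    subsingleton_hom_of_acyclic_gammaC I s.toList (fun a ha => hspan ▸ Ideal.subset_span ha) X hac
  have hT := DerivedCategory.triangleOfSES_distinguished (quotSES_shortExact I C)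
  refine ⟨fun f g hfg => ?_, fun v => ?_⟩
  · rw [← sub_eq_zero]
    have h0 : DerivedCategory.Q.map (incl I C) ≫ (f - g) = 0 := by
      rw [Preadditive.comp_sub]; exact sub_eq_zero.2 hfg
    obtain ⟨w, hw⟩ := Triangle.yoneda_exact₂ _ hT (f - g) h0
    haveI := hX L hL
    rw [hw, show w = 0 from Subsingleton.elim (α := DerivedCategory.Q.obj X ⟶ L) w 0, comp_zero]
  · have hT' := inv_rot_of_distTriang _ hT
    obtain ⟨f, hf⟩ := Triangle.yoneda_exact₂ _ hT' v (by
      haveI : Subsingleton ((DerivedCategory.Q.obj X)⟦(-1 : ℤ)⟧ ⟶ L) := by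
        exact @Equiv.subsingleton _ _ (((shiftEquiv (Dual.D A) (1 : ℤ)).symm.toAdjunction).homEquiv (DerivedCategory.Q.obj X) L)
          (hX (L⟦(1 : ℤ)⟧) (isDerivedComplete_shift hL _))
      exact Subsingleton.elim (α := (DerivedCategory.Q.obj X)⟦(-1 : ℤ)⟧ ⟶ L) _ _)
    exact ⟨f, hf.symm⟩

variable [DRing.HasDerivedCompletion I]

theorem bijective_unit_precomp (K L : Dual.D A) (hL : DRing.IsDerivedComplete I L) :
    Function.Bijective (fun f : ((DRing.derivedCompletion I).obj K).obj ⟶ L => DRing.toDerivedCompletion I K ≫ f) := by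
  let adj := DRing.derivedCompletionAdj I
  let L' : DRing.DComp I := ⟨L, hL⟩
  have key : ∀ g : (DRing.derivedCompletion I).obj K ⟶ L',
      adj.homEquiv K L' g = DRing.toDerivedCompletion I K ≫ g.hom := fun g => adj.homEquiv_unit _ _ g
  refine ⟨fun f g hfg => ?_, fun v => ?_⟩
  · exact congrArg (fun q => q.hom) ((adj.homEquiv K L').injective
      (((key (ObjectProperty.homMk f)).trans hfg).trans (key (ObjectProperty.homMk g)).symm))
  · obtain ⟨g, hg⟩ := (adj.homEquiv K L').surjective v
    exact ⟨g.hom, (key g).symm.trans hg⟩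

theorem isIso_RgammaI_map_unit (K : Dual.D A) :
    IsIso ((DRing.RgammaI I).map (DRing.toDerivedCompletion I K)) := by
  let u := DRing.toDerivedCompletion I K
  let f := (DRing.RgammaI I).map u
  obtain ⟨W, q, r, hT⟩ := distinguished_cocone_triangle f
  refine (Triangle.isZero₃_iff_isIso₁ _ hT).1 (isZero_of_orth I (IsNoetherian.noetherian I) W
    (elTors_obj₃ _ hT (elTors_of_isPowerTorsion (isPowerTorsion_RgammaI I _))
      (elTors_of_isPowerTorsion (isPowerTorsion_RgammaI I _))) fun L hL => ?_)
  have hf : ∀ L, DRing.IsDerivedComplete I L → Function.Bijective (fun g => f ≫ g :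
      ((DRing.RgammaI I).obj ((DRing.derivedCompletion I).obj K).obj ⟶ L) → _) := fun L hL => by
    have hb := (bijective_ε_precomp I K L hL).comp (bijective_unit_precomp I K L hL)
    refine (Function.Bijective.of_comp_iff _ (bijective_ε_precomp I _ L hL)).1 ?_
    convert hb using 1
    funext g
    dsimp only [Function.comp_apply]
    rw [← Category.assoc, ← Category.assoc]
    exact congrArg (· ≫ g) ((DRing.RgammaIε I).naturality u)
  refine subsingleton_of_forall_eq 0 fun φ => ?_
  have h0 : f ≫ (q ≫ φ) = f ≫ 0 := by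
    rw [← Category.assoc, comp_zero]
    exact (congrArg (· ≫ φ) (comp_distTriang_mor_zero₁₂ _ hT)).trans zero_comp
  obtain ⟨ψ, hψ⟩ := Triangle.yoneda_exact₃ _ hT φ ((hf L hL).1 h0)
  let E := ((shiftEquiv (Dual.D A) (1 : ℤ)).toAdjunction)
  obtain ⟨g, hg⟩ := (hf (L⟦(-1 : ℤ)⟧) (isDerivedComplete_shift hL _)).2 (E.homEquiv _ L ψ)
  have hg' : ψ = f⟦(1 : ℤ)⟧' ≫ (E.homEquiv _ L).symm g := by
    exact (((E.homEquiv _ L).symm_apply_apply ψ).symm.trans (congrArg _ hg.symm)).trans
      (E.homEquiv_naturality_left_symm f g)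
  rw [hψ, hg']
  show r ≫ f⟦(1 : ℤ)⟧' ≫ _ = 0
  rw [← Category.assoc]
  exact (congrArg (· ≫ _) (comp_distTriang_mor_zero₃₁ _ hT)).trans zero_comp

theorem isIso_completion_map_ε (K : Dual.D A) :
    IsIso ((DRing.derivedCompletion I).map ((DRing.RgammaIε I).app K)) := by
  let adj := DRing.derivedCompletionAdj I
  refine isIso_of_coyoneda_map_bijective _ fun L => ?_
  have hb := bijective_ε_precomp I K L.obj L.property
  refine (Function.Bijective.of_comp_iff' (adj.homEquiv _ L).bijective _).1 ?_
  have he : (adj.homEquiv ((DRing.RgammaI I).obj K) L) ∘ (fun g => (DRing.derivedCompletion I).map ((DRing.RgammaIε I).app K) ≫ g) =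
      (fun h => (DRing.RgammaIε I).app K ≫ h) ∘ (adj.homEquiv K L) :=
    funext fun g => adj.homEquiv_naturality_left _ g
  exact he ▸ hb.comp (adj.homEquiv K L).bijective

end Groth.Agent.RGammaLib
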