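import Groth.Prelude.Def_DRing3
import Groth.Prelude.Def_Wider
import Groth.Agent.LocCohBasic.Cd
import Groth.Agent.DRingTorAmp.Values
import Groth.Agent.DRingTorAmp.Criterion
import Mathlib.Algebra.Homology.HomologySequenceLemmas

/-!
# `Γ_I` on complexes of injective modules over a Noetherian ring

If the cohomology of a complex of injectives is `I`-power torsion, then `Γ_I P ⟶ P` is a
quasi-isomorphism (no boundedness needed).
-/

set_option autoImplicit false

universe u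

open CategoryTheory Limits

namespace Groth.Agent.RGammaLib

open Groth.Agent.LocCohBasic Groth.Agent.DRingTorAmp Groth.Agent.DRingKFlat

variable {A : Type u} [CommRing A]

/-- `Γ_I` on complexes. -/
noncomputable abbrev gammaC (I : Ideal A) : DRing.Cx A ⥤ DRing.Cx A :=
  (DRing.gammaI I).mapHomologicalComplex (ComplexShape.up ℤ)

/-- The inclusion `Γ_I P ⟶ P`. -/
noncomputable def incl (I : Ideal A) (P : DRing.Cx A) : (gammaC I).obj P ⟶ P where
  f i := (DRing.gammaIι I).app (P.X i)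
  comm' _ _ _ := rfl

theorem incl_natural (I : Ideal A) {P Q : DRing.Cx A} (φ : P ⟶ Q) :
    (gammaC I).map φ ≫ incl I Q = incl I P ≫ φ :=
  HomologicalComplex.hom_ext _ _ fun _ => rfl

theorem gammaC_map_incl (I : Ideal A) (P : DRing.Cx A) :
    (gammaC I).map (incl I P) = incl I ((gammaC I).obj P) :=
  HomologicalComplex.hom_ext _ _ fun _ => ModuleCat.hom_ext (LinearMap.ext fun _ => Subtype.ext rfl)

/-- Sections extend from `D(f)`: `M ⟶ M_f` is surjective. -/
def DivF (f : A) (M : ModuleCat.{u} A) : Prop :=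
  ∀ (x : M) (k : ℕ), ∃ (c : ℕ) (y : M), f ^ c • (f ^ k • y - x) = 0

/-- All torsion submodules extend sections from all `D(f)`. -/
def DivT (M : ModuleCat.{u} A) : Prop :=
  ∀ (J : Ideal A) (f : A), DivF f ((DRing.gammaI J).obj M)

theorem divT_of_injective [IsNoetherianRing A] (M : ModuleCat.{u} A) [Injective M] : DivT M := fun J f x k => by
  haveI : Module.Injective A M := Module.injective_module_of_injective_object A M
  haveI : Module.Injective A ((DRing.gammaI J).obj M) := injective_torsionSub J M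
  exact exists_pow_smul_smul_sub_eq_zero f x k

/-- The cohomology of `P` is `I`-power torsion, on elements. -/
def Tors (I : Ideal A) (P : DRing.Cx A) : Prop :=
  ∀ (i j k : ℤ), i + 1 = j → j + 1 = k → ∀ x : P.X j, (P.d j k) x = 0 →
    ∃ n : ℕ, ∀ a ∈ I ^ n, ∃ y : P.X i, (P.d i j) y = a • x

/-- Cycles and boundaries can be moved into `Γ_I P`. -/
def Moves (I : Ideal A) (P : DRing.Cx A) : Prop :=
  (∀ (i j k : ℤ), i + 1 = j → j + 1 = k → ∀ x : P.X j, (P.d j k) x = 0 →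
    ∃ w : P.X i, x - (P.d i j) w ∈ DRing.torsionSub I (P.X j)) ∧
  ∀ (i j : ℤ), i + 1 = j → ∀ z : P.X j, z ∈ DRing.torsionSub I (P.X j) → ∀ y : P.X i, (P.d i j) y = z →
    ∃ y' : P.X i, y' ∈ DRing.torsionSub I (P.X i) ∧ (P.d i j) y' = z

theorem d_d {P : DRing.Cx A} (i j k : ℤ) (x : P.X i) : (P.d j k) ((P.d i j) x) = 0 := by
  rw [← ModuleCat.comp_apply, HomologicalComplex.d_comp_d]
  rfl

theorem d_pred_succ {P : DRing.Cx A} (i : ℤ) : ∃ h, h + 1 = i :=
  ⟨i - 1, by omega⟩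

theorem moves_singleton (f : A) (P : DRing.Cx A) (hP : ∀ i, DivF f (P.X i))
    (h : Tors (Ideal.span {f}) P) : Moves (Ideal.span {f}) P := by
  refine ⟨fun i j k hij hjk x hx => ?_, fun i j hij z hz y hy => ?_⟩
  · obtain ⟨n, hn⟩ := h i j k hij hjk x hx
    obtain ⟨y, hy⟩ := hn (f ^ n) (Ideal.pow_mem_pow (Ideal.mem_span_singleton_self f) n)
    obtain ⟨c, w, hw⟩ := hP i y n
    refine ⟨w, mem_torsionSub_span_singleton.2 ⟨c + n, ?_⟩⟩
    have h1 := congrArg (P.d i j).hom hw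
    rw [map_zero, map_smul, map_sub, map_smul] at h1
    rw [pow_add, mul_smul, smul_sub, ← hy, smul_sub]
    rw [smul_sub] at h1
    rw [← neg_sub, h1, neg_zero]
  · obtain ⟨n, hn⟩ := mem_torsionSub_span_singleton.1 hz
    obtain ⟨g, hg⟩ := d_pred_succ (P := P) i
    obtain ⟨m, hm⟩ := h g i j hg hij (f ^ n • y) (by rw [map_smul, hy]; exact hn)
    obtain ⟨w, hw⟩ := hm (f ^ m) (Ideal.pow_mem_pow (Ideal.mem_span_singleton_self f) m)
    obtain ⟨c, w', hw'⟩ := hP g w (m + n)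
    refine ⟨y - (P.d g i) w', mem_torsionSub_span_singleton.2 ⟨c + (m + n), ?_⟩, ?_⟩
    · have h1 := congrArg (P.d g i).hom hw'
      rw [map_zero, map_smul, map_sub, map_smul] at h1
      have h2 : f ^ (m + n) • y = (P.d g i) w := by rw [pow_add, mul_smul]; exact hw.symm
      rw [pow_add, mul_smul, smul_sub, h2, ← neg_sub, smul_neg]
      exact neg_eq_zero.2 h1
    · rw [map_sub, d_d, sub_zero, hy]

theorem moves_bot (P : DRing.Cx A) : Moves (⊥ : Ideal A) P := by
  have hall : ∀ (M : ModuleCat.{u} A) (x : M), x ∈ DRing.torsionSub (⊥ : Ideal A) M := fun M x =>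
    ⟨1, fun a ha => by rw [pow_one, Ideal.mem_bot] at ha; rw [ha, zero_smul]⟩
  exact ⟨fun i j k _ _ x _ => ⟨0, hall _ _⟩, fun i j _ z _ y hy => ⟨y, hall _ _, hy⟩⟩

theorem moves_sup {J : Ideal A} (f : A)
    (ih : ∀ (P : DRing.Cx A), (∀ i, DivT (P.X i)) → Tors J P → Moves J P)
    (P : DRing.Cx A) (hP : ∀ i, DivT (P.X i)) (h : Tors (J ⊔ Ideal.span {f}) P) :
    Moves (J ⊔ Ideal.span {f}) P := by
  have hJ : Moves J P := ih P hP fun i j k hij hjk x hx => by
    obtain ⟨n, hn⟩ := h i j k hij hjk x hx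
    exact ⟨n, fun a ha => hn a (Ideal.pow_right_mono le_sup_left n ha)⟩
  have hf : Moves (Ideal.span {f}) ((gammaC J).obj P) := by
    refine moves_singleton f _ (fun i => hP i J f) fun i j k hij hjk x hx => ?_
    obtain ⟨n, hn⟩ := h i j k hij hjk x.1 (congrArg Subtype.val hx)
    refine ⟨n, fun a ha => ?_⟩
    obtain ⟨y, hy⟩ := hn a (Ideal.pow_right_mono le_sup_right n ha)
    obtain ⟨y', hy', hdy⟩ := hJ.2 i j hij (a • x.1) (Submodule.smul_mem _ a x.2) y hy
    exact ⟨⟨y', hy'⟩, Subtype.ext hdy⟩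
  have hmem : ∀ (M : ModuleCat.{u} A) (x : (DRing.gammaI J).obj M),
      x ∈ DRing.torsionSub (Ideal.span {f}) ((DRing.gammaI J).obj M) → x.1 ∈ DRing.torsionSub (J ⊔ Ideal.span {f}) M :=
    fun M x ⟨n, hn⟩ => mem_torsionSub_sup.2 ⟨x.2, n, fun a ha => congrArg Subtype.val (hn a ha)⟩
  refine ⟨fun i j k hij hjk x hx => ?_, fun i j hij z hz y hy => ?_⟩
  · obtain ⟨w, hw⟩ := hJ.1 i j k hij hjk x hx
    have hx' : (P.d j k) (x - (P.d i j) w) = 0 := by rw [map_sub, hx, d_d, sub_zero]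
    obtain ⟨w', hw'⟩ := hf.1 i j k hij hjk ⟨x - (P.d i j) w, hw⟩ (Subtype.ext hx')
    refine ⟨w + w'.1, ?_⟩
    rw [map_add, ← sub_sub]
    exact hmem _ _ hw'
  · obtain ⟨hzJ, n, hn⟩ := mem_torsionSub_sup.1 hz
    obtain ⟨y₁, hy₁, hd₁⟩ := hJ.2 i j hij z hzJ y hy
    obtain ⟨y₂, hy₂, hd₂⟩ := hf.2 i j hij ⟨z, hzJ⟩ ⟨n, fun a ha => Subtype.ext (hn a ha)⟩ ⟨y₁, hy₁⟩ (Subtype.ext hd₁)
    exact ⟨y₂.1, hmem _ _ hy₂, congrArg Subtype.val hd₂⟩

theorem moves' [IsNoetherianRing A] (I : Ideal A) (P : DRing.Cx A) (hP : ∀ i, DivT (P.X i))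
    (h : Tors I P) : Moves I P := by
  revert P
  obtain ⟨s, rfl⟩ := (IsNoetherian.noetherian I : I.FG)
  induction s using Finset.cons_induction with
  | empty =>
    intro P _ _
    rw [Finset.coe_empty, Submodule.span_empty]
    exact moves_bot P
  | cons f s hfs ih =>
    intro P hP h
    rw [Finset.coe_cons, Submodule.span_insert, sup_comm] at h ⊢
    exact moves_sup f ih P hP h

theorem quasiIso_of_acyclic_X₃ {S : ShortComplex (DRing.Cx A)} (hS : S.ShortExact) (h : S.X₃.Acyclic) :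
    QuasiIso S.f where
  quasiIsoAt i := by
    rw [quasiIsoAt_iff_isIso_homologyMap]
    have h0 : ∀ j, IsZero (S.X₃.homology j) := fun j => (HomologicalComplex.exactAt_iff_isZero_homology _ _).1 (h j)
    haveI : Epi (HomologicalComplex.homologyMap S.f i) :=
      (hS.homology_exact₂ i).epi_f ((h0 i).eq_of_tgt _ _)
    haveI : Mono (HomologicalComplex.homologyMap S.f i) :=
      (hS.homology_exact₁ (i - 1) i (by simp)).mono_g ((h0 (i - 1)).eq_of_src _ _)
    exact isIso_of_mono_of_epi _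

/-- `Γ_I P ⟶ P` is a quasi-isomorphism for torsion cohomology. -/
theorem quasiIso_incl' [IsNoetherianRing A] (I : Ideal A) (P : DRing.Cx A) (hP : ∀ i, DivT (P.X i))
    (h : Tors I P) : QuasiIso (incl I P) := by
  haveI : Mono (incl I P) := HomologicalComplex.mono_of_mono_f _ fun i =>
    (ModuleCat.mono_iff_injective _).2 Subtype.val_injective
  let S : ShortComplex (DRing.Cx A) := ShortComplex.mk (incl I P) (cokernel.π (incl I P)) (cokernel.condition _)
  have hS : S.ShortExact :=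
    { exact := ShortComplex.exact_of_g_is_cokernel _ (cokernelIsCokernel _)
      mono_f := inferInstanceAs (Mono (incl I P))
      epi_g := inferInstanceAs (Epi (cokernel.π (incl I P))) }
  obtain ⟨hcyc, hbd⟩ := moves' I P hP h
  refine quasiIso_of_acyclic_X₃ hS fun j => ?_
  obtain ⟨i, hij⟩ := d_pred_succ (P := P) j
  have hj : S.X₃.ExactAt j ↔ Function.Exact (S.X₃.d i j).hom (S.X₃.d j (j + 1)).hom :=
    exact_d_iff _ i j (j + 1) hij rfl
  rw [hj]
  have hdeg : ∀ l, ((S.map (HomologicalComplex.eval (ModuleCat.{u} A) (ComplexShape.up ℤ) l)).ShortExact) :=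
    fun l => hS.map_of_exact _
  have hker : ∀ l (x : P.X l), (S.g.f l) x = 0 → x ∈ DRing.torsionSub I (P.X l) := fun l x hx => by
    obtain ⟨y, hy⟩ := (ShortComplex.ShortExact.moduleCat_exact_iff_function_exact _).1 (hdeg l).exact x |>.1 hx
    rw [← hy]
    exact y.2
  have hsurj : ∀ l, Function.Surjective (S.g.f l).hom := fun l => (hdeg l).moduleCat_surjective_g
  have hcomm : ∀ l l' (x : P.X l), (S.X₃.d l l') ((S.g.f l) x) = (S.g.f l') ((P.d l l') x) := fun l l' x => by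
    rw [← ModuleCat.comp_apply, ← ModuleCat.comp_apply, S.g.comm]
  intro x'
  refine ⟨fun hx' => ?_, fun ⟨y', hy'⟩ => by rw [← hy']; exact d_d i j (j + 1) y'⟩
  obtain ⟨x, rfl⟩ := hsurj j x'
  have hdx : (P.d j (j + 1)) x ∈ DRing.torsionSub I (P.X (j + 1)) := hker _ _ (by rw [← hcomm]; exact hx')
  obtain ⟨y, hy, hdy⟩ := hbd j (j + 1) rfl _ hdx x rfl
  obtain ⟨w, hw⟩ := hcyc i j (j + 1) hij rfl (x - y) (by rw [map_sub, hdy, sub_self])
  refine ⟨(S.g.f i) w, ?_⟩
  have hg0 : ∀ l (z : P.X l), z ∈ DRing.torsionSub I (P.X l) → (S.g.f l) z = 0 := fun l z hz =>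
    (ShortComplex.ShortExact.moduleCat_exact_iff_function_exact _).1 (hdeg l).exact z |>.2 ⟨⟨z, hz⟩, rfl⟩
  have h1 := hg0 j _ hw
  rw [map_sub, map_sub, hg0 j y hy, sub_zero, sub_eq_zero] at h1
  rw [h1, ← hcomm]

theorem acyclic_gammaC' [IsNoetherianRing A] (I : Ideal A) (P : DRing.Cx A) (hP : ∀ i, DivT (P.X i))
    (h : P.Acyclic) : ((gammaC I).obj P).Acyclic := by
  haveI := quasiIso_incl' I P hP fun i j k hij hjk x hx => ⟨0, fun a _ => by
    obtain ⟨y, hy⟩ := ((exact_d_iff P i j k hij hjk).1 (h j) x).1 hx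
    exact ⟨a • y, by rw [map_smul, hy]⟩⟩
  exact fun i => (exactAt_iff_of_quasiIsoAt (incl I P) i).2 (h i)

theorem quasiIso_incl [IsNoetherianRing A] (I : Ideal A) (P : DRing.Cx A) [∀ i, Injective (P.X i)]
    (h : Tors I P) : QuasiIso (incl I P) :=
  quasiIso_incl' I P (fun i => divT_of_injective _) h

theorem acyclic_gammaC [IsNoetherianRing A] (I : Ideal A) (P : DRing.Cx A) [∀ i, Injective (P.X i)]
    (h : P.Acyclic) : ((gammaC I).obj P).Acyclic :=
  acyclic_gammaC' I P (fun i => divT_of_injective _) h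

theorem divT_of_iso {M N : ModuleCat.{u} A} (e : M ≅ N) (h : DivT M) : DivT N := fun J f x k => by
  let e' := ((DRing.gammaI J).mapIso e).toLinearEquiv
  obtain ⟨c, y, hy⟩ := h J f (e'.symm x) k
  refine ⟨c, e' y, e'.symm.injective ?_⟩
  rw [map_smul, map_sub, map_smul, e'.symm_apply_apply, map_zero]
  exact hy

theorem divT_biprod {M N : ModuleCat.{u} A} (hM : DivT M) (hN : DivT N) : DivT (M ⊞ N) := by
  refine divT_of_iso (ModuleCat.biprodIsoProd M N).symm fun J f x k => ?_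
  obtain ⟨n, hn⟩ := x.2
  obtain ⟨c₁, y₁, h₁⟩ := hM J f ⟨x.1.1, n, fun a ha => congrArg Prod.fst (hn a ha)⟩ k
  obtain ⟨c₂, y₂, h₂⟩ := hN J f ⟨x.1.2, n, fun a ha => congrArg Prod.snd (hn a ha)⟩ k
  obtain ⟨n₁, hn₁⟩ := y₁.2
  obtain ⟨n₂, hn₂⟩ := y₂.2
  refine ⟨c₁ + c₂, ⟨(y₁.1, y₂.1), n₁ + n₂, fun a ha => Prod.ext
    (hn₁ a (Ideal.pow_le_pow_right (Nat.le_add_right n₁ n₂) ha))
    (hn₂ a (Ideal.pow_le_pow_right (Nat.le_add_left n₂ n₁) ha))⟩, Subtype.ext (Prod.ext ?_ ?_)⟩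
  · show f ^ (c₁ + c₂) • (f ^ k • y₁.1 - x.1.1) = 0
    have h₁' : f ^ c₁ • (f ^ k • y₁.1 - x.1.1) = 0 := congrArg Subtype.val h₁
    rw [Nat.add_comm, pow_add, mul_smul, h₁', smul_zero]
  · show f ^ (c₁ + c₂) • (f ^ k • y₂.1 - x.1.2) = 0
    have h₂' : f ^ c₂ • (f ^ k • y₂.1 - x.1.2) = 0 := congrArg Subtype.val h₂
    rw [pow_add, mul_smul, h₂', smul_zero]

/-- `Γ_I` preserves quasi-isomorphisms between complexes with divisible torsion submodules. -/
theorem quasiIso_gammaC_map' [IsNoetherianRing A] (I : Ideal A) {P Q : DRing.Cx A} (φ : P ⟶ Q)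
    (hP : ∀ i, DivT (P.X i)) (hQ : ∀ i, DivT (Q.X i)) [QuasiIso φ] : QuasiIso ((gammaC I).map φ) :=
  quasiIso_of_cone_acyclic _ (acyclic_of_iso
    (CochainComplex.mappingCone.mapHomologicalComplexIso φ (DRing.gammaI I))
    (acyclic_gammaC' I _ (fun i => divT_of_iso (HomologicalComplex.homotopyCofiber.XIsoBiprod φ i (i + 1) rfl).symm
      (divT_biprod (hP (i + 1)) (hQ i))) (cone_acyclic_of_quasiIso φ)))

/-- `Γ_I` preserves quasi-isomorphisms between complexes of injectives. -/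
theorem quasiIso_gammaC_map [IsNoetherianRing A] (I : Ideal A) {P Q : DRing.Cx A} (φ : P ⟶ Q)
    [∀ i, Injective (P.X i)] [∀ i, Injective (Q.X i)] [QuasiIso φ] : QuasiIso ((gammaC I).map φ) :=
  quasiIso_gammaC_map' I φ (fun i => divT_of_injective _) (fun i => divT_of_injective _)

end Groth.Agent.RGammaLib
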