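import Groth.Agent.RGammaLib.HDIHom

/-!
# Local cohomology and restriction of scalars
-/

set_option autoImplicit false
set_option backward.isDefEq.respectTransparency false
set_option backward.defeqAttrib.useBackward true

universe u

attribute [local instance] HasDerivedCategory.standard

open CategoryTheory Limits Opposite

namespace Groth.Agent.RGammaLib

variable {A B : Type u} [CommRing A] [CommRing B] (φ : A →+* B)

theorem mem_torsion_restrict {M : ModuleCat.{u} B} (I : Ideal A) (x : M) :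
    (show (ModuleCat.restrictScalars φ).obj M from x) ∈ DRing.torsionSub I ((ModuleCat.restrictScalars φ).obj M) ↔
      x ∈ DRing.torsionSub (I.map φ) M := by
  refine exists_congr fun n => ⟨fun h b hb => ?_, fun h a ha => ?_⟩
  · rw [← Ideal.map_pow] at hb
    have hle : (I ^ n).map φ ≤ (LinearMap.toSpanSingleton B M x).ker := Ideal.map_le_iff_le_comap.2 fun a ha => h a ha
    exact hle hb
  · exact h (φ a) (Ideal.map_pow φ I n ▸ Ideal.mem_map_of_mem φ ha)

theorem divT_restrict [IsNoetherianRing B] (E : ModuleCat.{u} B) [Injective E] :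
    DivT ((ModuleCat.restrictScalars φ).obj E) := fun J f x k => by
  obtain ⟨c, y, hy⟩ := divT_of_injective E (J.map φ) (φ f) ⟨x.1, (mem_torsion_restrict φ J _).1 x.2⟩ k
  refine ⟨c, ⟨y.1, (mem_torsion_restrict φ J _).2 y.2⟩, Subtype.ext ?_⟩
  have h1 : (φ f) ^ c • ((φ f) ^ k • y.1 - (show E from x.1)) = 0 := congrArg Subtype.val hy
  show φ (f ^ c) • (φ (f ^ k) • y.1 - (show E from x.1)) = 0
  rw [map_pow, map_pow]
  exact h1

/-- Termwise restriction of scalars. -/
noncomputable abbrev resC : DRing.Cx B ⥤ DRing.Cx A :=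
  (ModuleCat.restrictScalars.{u} φ).mapHomologicalComplex (ComplexShape.up ℤ)

/-- `Γ_I` commutes with restriction of scalars. -/
noncomputable def gammaResIso (I : Ideal A) (L : DRing.Cx B) :
    (gammaC I).obj ((resC φ).obj L) ≅ (resC φ).obj ((gammaC (I.map φ)).obj L) :=
  HomologicalComplex.Hom.isoOfComponents (fun n => LinearEquiv.toModuleIso
    (X₁ := DRing.torsionSub I ((ModuleCat.restrictScalars φ).obj (L.X n)))
    (X₂ := (ModuleCat.restrictScalars φ).obj ((DRing.gammaI (I.map φ)).obj (L.X n)))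
    { toFun := fun x => (⟨x.1, (mem_torsion_restrict φ I _).1 x.2⟩ : DRing.torsionSub (I.map φ) (L.X n))
      map_add' := fun _ _ => rfl
      map_smul' := fun _ _ => rfl
      invFun := fun x => ⟨(show DRing.torsionSub (I.map φ) (L.X n) from x).1,
        (mem_torsion_restrict φ I _).2 (show DRing.torsionSub (I.map φ) (L.X n) from x).2⟩
      left_inv := fun _ => rfl
      right_inv := fun _ => rfl }) (fun n m _ => rfl)

/-- The homology of `Γ_I L` in degree `0` by cycles. -/
theorem nonempty_quot_equiv (I : Ideal A) (L : DRing.Cx A) :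
    Nonempty ((↥(cyc I L) ⧸ (bnd I L).comap (cyc I L).subtype) ≃ₗ[A]
      Dual.HD A (DerivedCategory.Q.obj ((gammaC I).obj L)) 0) := by
  let S := ((gammaC I).obj L).sc' (-1) 0 1
  let θ : cyc I L →ₗ[A] S.g.hom.ker ⧸ LinearMap.range S.moduleCatToCycles :=
    (LinearMap.range S.moduleCatToCycles).mkQ ∘ₗ
      { toFun := fun x => ⟨⟨x.1, x.2.1⟩, LinearMap.mem_ker.2 (Subtype.ext x.2.2)⟩
        map_add' := fun _ _ => rfl, map_smul' := fun _ _ => rfl }
  have hθs : Function.Surjective θ := fun t => by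
    obtain ⟨⟨⟨z, hz⟩, hz0⟩, rfl⟩ := Submodule.mkQ_surjective _ t
    exact ⟨⟨z, hz, congrArg Subtype.val (LinearMap.mem_ker.1 hz0)⟩, rfl⟩
  have hθk : LinearMap.ker θ = (bnd I L).comap (cyc I L).subtype := by
    ext x
    refine (LinearMap.mem_ker.trans (Submodule.Quotient.mk_eq_zero _)).trans ⟨?_, ?_⟩
    · rintro ⟨y, hy⟩
      exact ⟨y.1, y.2, congrArg Subtype.val (congrArg Subtype.val hy)⟩
    · rintro ⟨y, hy, hyx⟩
      exact ⟨⟨y, hy⟩, Subtype.ext (Subtype.ext hyx)⟩
  exact ⟨(Submodule.quotEquivOfEq _ _ hθk.symm).trans ((θ.quotKerEquivOfSurjective hθs).trans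
    (hdIso ((gammaC I).obj L) (-1) 0 1 (by omega) (by omega)).symm)⟩

/-- `HDI` at a K-injective model of the shift. -/
theorem nonempty_HDI_equiv (I : Ideal A) (K : Dual.D A) (i : ℤ) (L : DRing.Cx A) [L.IsKInjective]
    (e : DerivedCategory.Q.obj L ≅ K⟦i⟧) :
    Nonempty (Dual.HD A (DerivedCategory.Q.obj ((gammaC I).obj L)) 0 ≃ₗ[A] ↥(Dual2.HDI A I K i)) := by
  obtain ⟨e1⟩ := nonempty_colimit_equiv I L
  obtain ⟨e2⟩ := nonempty_quot_equiv I L
  exact ⟨e2.symm.trans (e1.trans (HasColimit.isoOfNatIso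
    (Functor.isoWhiskerLeft (localCohomology.ringModIdeals (localCohomology.idealPowersDiagram I) ⋙
        DerivedCategory.singleFunctor (ModuleCat.{u} A) 0).op
      ((linearYoneda A (Dual.D A)).mapIso e))).toLinearEquiv)⟩

theorem nonempty_HDI_restrict [IsNoetherianRing A] [IsNoetherianRing B] (I : Ideal A) (K : Dual.D B) (i : ℤ) :
    Nonempty (Dual2.HDI A I ((DRing.restrictD φ).obj K) i ≅
      (ModuleCat.restrictScalars φ).obj (Dual2.HDI B (I.map φ) K i)) := by
  obtain ⟨C, hC, hCinj, ⟨eC⟩⟩ := exists_model (K⟦i⟧)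
  haveI := hC
  obtain ⟨L, j, hL, hj, -, hLinj⟩ := Groth.Agent.S0476.result ((resC φ).obj C)
  haveI := hL
  haveI := hj
  haveI := hLinj
  haveI := hCinj
  haveI := quasiIso_gammaC_map' I j (fun n => divT_restrict φ (C.X n)) (fun n => divT_of_injective (L.X n))
  let eL : DerivedCategory.Q.obj L ≅ ((DRing.restrictD φ).obj K)⟦i⟧ :=
    (asIso (DerivedCategory.Q.map j)).symm ≪≫
      ((ModuleCat.restrictScalars.{u} φ).mapDerivedCategoryFactors.app C).symm ≪≫
      (DRing.restrictD φ).mapIso eC ≪≫ ((ModuleCat.restrictScalars.{u} φ).mapDerivedCategory.commShiftIso i).app K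
  obtain ⟨a1⟩ := nonempty_HDI_equiv I _ i L eL
  obtain ⟨b1⟩ := nonempty_HDI_equiv (I.map φ) K i C eC
  let M := (gammaC (I.map φ)).obj C
  let a2 : Dual.HD A (DerivedCategory.Q.obj ((gammaC I).obj L)) 0 ≃ₗ[A]
      (ModuleCat.restrictScalars.{u} φ).obj ((DerivedCategory.homologyFunctor (ModuleCat.{u} B) 0).obj
        (DerivedCategory.Q.obj M)) :=
    Iso.toLinearEquiv ((DerivedCategory.homologyFunctor (ModuleCat.{u} A) 0).mapIso
        ((asIso (DerivedCategory.Q.map ((gammaC I).map j))).symm ≪≫ DerivedCategory.Q.mapIso (gammaResIso φ I C)) ≪≫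
      (DerivedCategory.homologyFunctorFactors _ 0).app _ ≪≫
      (M.sc 0).mapHomologyIso (ModuleCat.restrictScalars.{u} φ) ≪≫
      (ModuleCat.restrictScalars.{u} φ).mapIso ((DerivedCategory.homologyFunctorFactors _ 0).app M).symm)
  exact ⟨LinearEquiv.toModuleIso (X₁ := Dual2.HDI A I ((DRing.restrictD φ).obj K) i)
    (X₂ := (ModuleCat.restrictScalars φ).obj (Dual2.HDI B (I.map φ) K i))
    { toFun := fun x => b1 (a2 (a1.symm x))
      map_add' := fun x y => by
        show b1 (a2 (a1.symm (x + y))) = b1 (a2 (a1.symm x)) + b1 (a2 (a1.symm y))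
        rw [map_add, map_add, map_add]
      map_smul' := fun r x => by
        show b1 (a2 (a1.symm (r • x))) = φ r • b1 (a2 (a1.symm x))
        rw [map_smul, map_smul]
        exact b1.map_smul (φ r) _
      invFun := fun x => a1 (a2.symm (b1.symm x))
      left_inv := fun x => by simp
      right_inv := fun x => by simp }⟩

end Groth.Agent.RGammaLib
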