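import Groth.Agent.RGammaLib.Derived
import Groth.Prelude.Def_DualLC

/-!
# Torsion cohomology and `RΓ_I`
-/

set_option autoImplicit false

universe u

attribute [local instance] HasDerivedCategory.standard

open CategoryTheory Limits

namespace Groth.Agent.RGammaLib

variable {A : Type u} [CommRing A]

/-- Cohomology of `Q P` on elements. -/
noncomputable def hdIso (P : DRing.Cx A) (i j k : ℤ) (hij : i + 1 = j) (hjk : j + 1 = k) :
    Dual.HD A (DerivedCategory.Q.obj P) j ≃ₗ[A]
      ((P.sc' i j k).g.hom.ker ⧸ LinearMap.range (P.sc' i j k).moduleCatToCycles) :=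
  Iso.toLinearEquiv (X := (DerivedCategory.homologyFunctor (ModuleCat.{u} A) j).obj (DerivedCategory.Q.obj P))
    (Y := (P.sc' i j k).moduleCatLeftHomologyData.H)
    ((DerivedCategory.homologyFunctorFactors (ModuleCat.{u} A) j).app P ≪≫
      ShortComplex.homologyMapIso (P.isoSc' i j k (by simp; omega) (by simp; omega)) ≪≫
      (P.sc' i j k).moduleCatHomologyIso)

theorem tors_iff (I : Ideal A) (P : DRing.Cx A) :
    Tors I P ↔ ∀ j : ℤ, LocCoh.IsPowerTorsion I (Dual.HD A (DerivedCategory.Q.obj P) j) := by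
  constructor
  · intro h j m
    obtain ⟨i, hij⟩ := d_pred_succ (P := P) j
    let e := hdIso P i j (j + 1) hij rfl
    obtain ⟨⟨x, hx⟩, hxm⟩ := Submodule.mkQ_surjective _ (e m)
    obtain ⟨n, hn⟩ := h i j (j + 1) hij rfl x hx
    refine ⟨n, fun a ha => e.injective ?_⟩
    obtain ⟨y, hy⟩ := hn a ha
    rw [map_smul, map_zero, ← hxm, ← map_smul]
    exact (Submodule.Quotient.mk_eq_zero _).2 ⟨y, Subtype.ext hy⟩
  · intro h i j k hij hjk x hx
    let e := hdIso P i j k hij hjk
    obtain ⟨n, hn⟩ := h j (e.symm (Submodule.Quotient.mk ⟨x, hx⟩))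
    refine ⟨n, fun a ha => ?_⟩
    have h1 := congrArg e (hn a ha)
    rw [map_smul, e.apply_symm_apply, map_zero, ← Submodule.Quotient.mk_smul, Submodule.Quotient.mk_eq_zero] at h1
    obtain ⟨y, hy⟩ := h1
    exact ⟨y, congrArg Subtype.val hy⟩

theorem tors_gammaC (I : Ideal A) (P : DRing.Cx A) : Tors I ((gammaC I).obj P) := fun i j k hij hjk x _ => by
  obtain ⟨n, hn⟩ := x.2
  exact ⟨n, fun a ha => ⟨0, by rw [map_zero]; exact (Subtype.ext (hn a ha)).symm⟩⟩

/-- Torsion cohomology is invariant under isomorphism. -/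
theorem isPowerTorsion_iso (I : Ideal A) {K L : Dual.D A} (e : K ≅ L)
    (h : ∀ j : ℤ, LocCoh.IsPowerTorsion I (Dual.HD A K j)) (j : ℤ) : LocCoh.IsPowerTorsion I (Dual.HD A L j) := by
  let f := ((DerivedCategory.homologyFunctor (ModuleCat.{u} A) j).mapIso e).toLinearEquiv
  intro m
  obtain ⟨n, hn⟩ := h j (f.symm m)
  refine ⟨n, fun a ha => f.symm.injective ?_⟩
  rw [map_smul, map_zero]
  exact hn a ha

variable (I : Ideal A) [DRing.HasRgammaI I]

theorem isPowerTorsion_RgammaI (K : Dual.D A) (j : ℤ) :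
    LocCoh.IsPowerTorsion I (Dual.HD A ((DRing.RgammaI I).obj K) j) := by
  obtain ⟨J, hJ, -, ⟨e⟩⟩ := exists_model K
  haveI := isIso_eta_kInj I J hJ
  exact isPowerTorsion_iso I (asIso (eta I J) ≪≫ (DRing.RgammaI I).mapIso e)
    ((tors_iff I _).1 (tors_gammaC I J)) j

theorem isIso_ε_of_torsion [IsNoetherianRing A] (K : Dual.D A)
    (hK : ∀ j : ℤ, LocCoh.IsPowerTorsion I (Dual.HD A K j)) : IsIso ((DRing.RgammaIε I).app K) := by
  obtain ⟨J, hJ, hinj, ⟨e⟩⟩ := exists_model K
  haveI := hinj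
  haveI := isIso_eta_kInj I J hJ
  haveI := quasiIso_incl I J ((tors_iff I J).2 (isPowerTorsion_iso I e.symm hK))
  haveI : IsIso (eta I J ≫ (DRing.RgammaIε I).app (DerivedCategory.Q.obj J)) := by
    rw [eta_ε]; infer_instance
  haveI := IsIso.of_isIso_comp_left (eta I J) ((DRing.RgammaIε I).app (DerivedCategory.Q.obj J))
  exact (NatTrans.isIso_app_iff_of_iso _ e).1 inferInstance

/-- The idempotence identity `RΓ_I(ε_K) = ε_{RΓ_I K}`. -/
theorem map_ε [IsNoetherianRing A] (K : Dual.D A) :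
    (DRing.RgammaI I).map ((DRing.RgammaIε I).app K) = (DRing.RgammaIε I).app ((DRing.RgammaI I).obj K) := by
  obtain ⟨J, hJ, hinj, ⟨e⟩⟩ := exists_model K
  suffices h : (DRing.RgammaI I).map ((DRing.RgammaIε I).app (DerivedCategory.Q.obj J)) =
      (DRing.RgammaIε I).app ((DRing.RgammaI I).obj (DerivedCategory.Q.obj J)) by
    have h1 : (DRing.RgammaI I).map ((DRing.RgammaI I).map e.hom) ≫ (DRing.RgammaI I).map ((DRing.RgammaIε I).app K) =
        (DRing.RgammaI I).map ((DRing.RgammaIε I).app (DerivedCategory.Q.obj J)) ≫ (DRing.RgammaI I).map e.hom := by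
      rw [← Functor.map_comp, ← Functor.map_comp]
      exact congrArg _ ((DRing.RgammaIε I).naturality e.hom)
    have h2 : (DRing.RgammaI I).map ((DRing.RgammaI I).map e.hom) ≫ (DRing.RgammaIε I).app ((DRing.RgammaI I).obj K) =
        (DRing.RgammaIε I).app ((DRing.RgammaI I).obj (DerivedCategory.Q.obj J)) ≫ (DRing.RgammaI I).map e.hom :=
      (DRing.RgammaIε I).naturality ((DRing.RgammaI I).map e.hom)
    exact (cancel_epi ((DRing.RgammaI I).map ((DRing.RgammaI I).map e.hom))).1 (h1.trans ((congrArg (· ≫ _) h).trans h2.symm))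
  haveI := hinj
  haveI := isIso_eta_kInj I J hJ
  haveI : ∀ n, Injective (((gammaC I).obj J).X n) := fun n =>
    inferInstanceAs (Injective ((DRing.gammaI I).obj (J.X n)))
  haveI := isIso_eta I ((gammaC I).obj J)
  have hn : (DRing.RgammaI I).map (eta I J) ≫ (DRing.RgammaIε I).app ((DRing.RgammaI I).obj (DerivedCategory.Q.obj J)) =
      (DRing.RgammaIε I).app (DerivedCategory.Q.obj ((gammaC I).obj J)) ≫ eta I J :=
    (DRing.RgammaIε I).naturality (eta I J)
  rw [← cancel_epi (eta I ((gammaC I).obj J) ≫ (DRing.RgammaI I).map (eta I J)), Category.assoc, Category.assoc, hn,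
    ← Functor.map_comp, eta_ε, ← eta_natural, gammaC_map_incl, ← Category.assoc, eta_ε]

end Groth.Agent.RGammaLib
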